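import Mathlib
import Cfsg.Prelude.Def_LocalEven
import Cfsg.Agent.Lib.Solvable.EigenChain
import Cfsg.Agent.Lib.PCore.Basic

/-!
Groups in which every subgroup of order prime to `p` is nilpotent.
-/

set_option autoImplicit false
set_option linter.unusedSectionVars false
set_option linter.style.haveILetI false

namespace CfsgLib.MinSimple12

open Subgroup

universe u v

/-- Every subgroup of order prime to `p` is nilpotent. -/
def PNil (p : ℕ) (G : Type u) [Group G] : Prop :=
  ∀ H : Subgroup G, (Nat.card ↥H).Coprime p → Group.IsNilpotent ↥H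

variable {p : ℕ} {G : Type u} [Group G] [Finite G]

theorem PNil.subgroup (h : PNil p G) (K : Subgroup G) : PNil p ↥K := fun H hH => by
  haveI := h (H.map K.subtype) (by rwa [card_map_of_injective K.subtype_injective])
  exact Group.nilpotent_of_mulEquiv (equivMapOfInjective H K.subtype K.subtype_injective).symm

/-- A surjection has a restriction whose domain has no new prime divisors. -/
theorem exists_small_preimage {Q : Type v} [Group Q] [Finite Q] (f : G →* Q)
    (hf : Function.Surjective f) :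
    ∃ K : Subgroup G, K.map f = ⊤ ∧ ∀ q : ℕ, q.Prime → q ∣ Nat.card K → q ∣ Nat.card Q := by
  obtain ⟨K, hK, hmin⟩ := Set.Finite.exists_minimal (s := {K : Subgroup G | K.map f = ⊤})
    (Set.toFinite _) ⟨⊤, by
      show (⊤ : Subgroup G).map f = ⊤
      rw [← MonoidHom.range_eq_map, MonoidHom.range_eq_top.2 hf]⟩
  refine ⟨K, hK, fun q hq hqK => ?_⟩
  by_contra hqQ
  haveI : Fact q.Prime := ⟨hq⟩
  set g := f.comp K.subtype with hg
  have hgs : Function.Surjective g := fun y => by
    obtain ⟨x, hx, rfl⟩ := (show y ∈ K.map f from hK.symm ▸ mem_top y)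
    exact ⟨⟨x, hx⟩, rfl⟩
  set L := g.ker with hL
  -- the kernel lies in the Frattini subgroup
  have hLF : L ≤ frattini K := by
    simp only [frattini, Order.radical, le_iInf_iff]
    intro M hM
    by_contra hle
    have htop : M ⊔ L = ⊤ := hM.2 _ (lt_of_le_not_ge le_sup_left fun h => hle (le_sup_right.trans h))
    have h1 : (M.map K.subtype).map f = ⊤ := by
      rw [map_map, ← hg, eq_top_iff]
      intro y _
      obtain ⟨x, rfl⟩ := hgs y
      obtain ⟨m, hm, l, hl, hml⟩ := mem_sup_of_normal_right.1 (htop ▸ mem_top x : x ∈ M ⊔ L)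
      refine ⟨m, hm, ?_⟩
      rw [← hml, map_mul, show g l = 1 from hl, mul_one]
    have h2 : K ≤ M.map K.subtype := hmin h1 (map_subtype_le _)
    refine hM.1 (eq_top_iff.2 fun x _ => ?_)
    obtain ⟨y, hy, hyx⟩ := h2 x.2
    rwa [← Subtype.ext (hyx : (y : G) = (x : G))]
  obtain ⟨P⟩ : Nonempty (Sylow q K) := inferInstance
  have hPL : (P : Subgroup K) ≤ L := by
    intro x hx
    obtain ⟨k, hk⟩ := P.2 ⟨x, hx⟩
    have h1 : orderOf (g x) ∣ q ^ k := orderOf_dvd_of_pow_eq_one (by
      rw [← map_pow, show x ^ q ^ k = 1 from congrArg Subtype.val hk, map_one])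
    obtain ⟨j, -, hj⟩ := (Nat.dvd_prime_pow hq).1 h1
    rcases j with _ | j
    · exact MonoidHom.mem_ker.2 (orderOf_eq_one_iff.1 (by rw [hj, pow_zero]))
    · exact absurd ((dvd_pow_self q j.succ_ne_zero).trans (hj ▸ orderOf_dvd_natCard (g x))) hqQ
  haveI : (P : Subgroup K).Normal := normalizer_eq_top_iff.1 (frattini_nongenerating (eq_top_iff.2
    ((Sylow.normalizer_sup_eq_top' P hPL).ge.trans (sup_le_sup_left hLF _))))
  obtain ⟨H, hH⟩ := exists_left_complement'_of_coprime P.card_coprime_index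
  have h3 : H = ⊤ := frattini_nongenerating
    (eq_top_iff.2 (hH.sup_eq_top.ge.trans (sup_le_sup_left (hPL.trans hLF) _)))
  have h4 := hH.card_mul_card
  rw [h3, Subgroup.card_top] at h4
  have h5 : Nat.card (P : Subgroup K) = 1 :=
    Nat.eq_of_mul_eq_mul_left Nat.card_pos (h4.trans (mul_one _).symm)
  have h6 := P.dvd_card_of_dvd_card hqK
  rw [h5] at h6
  exact hq.one_lt.ne' (Nat.dvd_one.1 h6)

/-- A section of order prime to `p` is nilpotent. -/
theorem PNil.of_surjective (h : PNil p G) (hp : p.Prime) (K : Subgroup G) {Q : Type v} [Group Q]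
    [Finite Q] (f : K →* Q) (hf : Function.Surjective f) (hQ : (Nat.card Q).Coprime p) :
    Group.IsNilpotent Q := by
  obtain ⟨K₀, hK₀, hpr⟩ := exists_small_preimage f hf
  haveI : Group.IsNilpotent K₀ := h.subgroup K K₀ (Nat.Coprime.symm ((hp.coprime_iff_not_dvd).2
    fun hd => (hp.coprime_iff_not_dvd.1 hQ.symm) (hpr p hp hd)))
  exact Group.nilpotent_of_surjective (f.comp K₀.subtype) fun y => by
    obtain ⟨x, hx, rfl⟩ := (show y ∈ K₀.map f from hK₀.symm ▸ mem_top y)
    exact ⟨⟨x, hx⟩, rfl⟩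

/-- The hypothesis passes to quotients. -/
theorem PNil.quotient (h : PNil p G) (hp : p.Prime) (N : Subgroup G) [N.Normal] :
    PNil p (G ⧸ N) := by
  intro H hH
  refine h.of_surjective hp (H.comap (QuotientGroup.mk' N))
    ((QuotientGroup.mk' N).subgroupComap H) ?_ hH
  rintro ⟨y, hy⟩
  obtain ⟨x, rfl⟩ := QuotientGroup.mk'_surjective N y
  exact ⟨⟨x, hy⟩, rfl⟩

/-- The symmetric group of degree 4 is not involved. -/
theorem PNil.not_involves (h : PNil p G) (hp : p.Prime) (hp3 : 3 < p) :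
    ¬ Cfsg.Involves (Equiv.Perm (Fin 4)) G := by
  rintro ⟨K, R, hn, ⟨e⟩⟩
  haveI := hn
  have hc : (Nat.card (↥K ⧸ R.subgroupOf K)).Coprime p := by
    rw [Nat.card_congr e.toEquiv, Nat.card_eq_fintype_card, Fintype.card_perm, Fintype.card_fin]
    refine Nat.Coprime.symm ((hp.coprime_iff_not_dvd).2 fun hd => ?_)
    have := (Nat.Prime.dvd_factorial hp).1 hd
    interval_cases p
    all_goals norm_num at hp
  haveI := h.of_surjective hp K (QuotientGroup.mk' (R.subgroupOf K))
    (QuotientGroup.mk'_surjective _) hc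
  haveI : Group.IsNilpotent (Equiv.Perm (Fin 4)) := Group.nilpotent_of_mulEquiv e
  have h2 : Equiv.swap (0 : Fin 4) 1 ^ 2 ^ 1 = 1 := by decide
  have h3 : (Equiv.swap (0 : Fin 4) 1 * Equiv.swap (1 : Fin 4) 2) ^ 3 ^ 1 = 1 := by decide
  have h4 := CfsgLib.Solvable.EigenChain.commute_of_coprime (F := (⊤ : Subgroup (Equiv.Perm (Fin 4))))
    (Group.nilpotent_of_mulEquiv (Subgroup.topEquiv : (⊤ : Subgroup (Equiv.Perm (Fin 4))) ≃* _).symm)
    (mem_top _) (mem_top _) Nat.prime_two Nat.prime_three (by norm_num) ⟨1, h2⟩ ⟨1, h3⟩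
  exact absurd h4.eq (by decide)

/-- Commutation inside a nilpotent `p'`-product. -/
theorem PNil.commute_of_normalizes (h : PNil p G) (hp : p.Prime) {X Y : Subgroup G}
    (hn : Y ≤ normalizer (X : Set G)) (hX : (Nat.card X).Coprime p) (hY : (Nat.card Y).Coprime p)
    {x y : G} (hx : x ∈ X) (hy : y ∈ Y) {q r : ℕ} (hq : q.Prime) (hr : r.Prime) (hqr : q ≠ r)
    (hxq : ∃ k, x ^ q ^ k = 1) (hyr : ∃ k, y ^ r ^ k = 1) : Commute x y := by
  have hc : (Nat.card ↥(X ⊔ Y)).Coprime p := by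
    refine Nat.Coprime.symm ((hp.coprime_iff_not_dvd).2 fun hd => ?_)
    haveI : Fact p.Prime := ⟨hp⟩
    have h1 : Nat.card ↥(X ⊔ Y) ∣ Nat.card X * Nat.card Y := by
      have hX' : (X.subgroupOf (X ⊔ Y)).Normal := normal_subgroupOf_of_le_normalizer
        (sup_le le_normalizer hn)
      have := CfsgLib.PCore.card_sup_dvd_mul (X.subgroupOf (X ⊔ Y)) (Y.subgroupOf (X ⊔ Y))
      rw [← subgroupOf_sup le_sup_left le_sup_right, subgroupOf_self, Subgroup.card_top,
        Nat.card_congr (subgroupOfEquivOfLe le_sup_left).toEquiv,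
        Nat.card_congr (subgroupOfEquivOfLe le_sup_right).toEquiv] at this
      exact this
    exact (hp.coprime_iff_not_dvd.1 ((Nat.Coprime.mul_left hX hY).symm)) (hd.trans h1)
  exact CfsgLib.Solvable.EigenChain.commute_of_coprime (h _ hc) (mem_sup_left hx) (mem_sup_right hy)
    hq hr hqr hxq hyr

/-- An element of prime-power order `r ^ k` normalizing a `q`-group centralizes it (`q, r ≠ p`). -/
theorem PNil.commute_prime (h : PNil p G) (hp : p.Prime) {X : Subgroup G} {q r : ℕ} (hq : q.Prime)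
    (hr : r.Prime) (hqr : q ≠ r) (hqp : q ≠ p) (hrp : r ≠ p) (hX : IsPGroup q X) {x y : G}
    (hx : x ∈ X) (hy : y ∈ normalizer (X : Set G)) (hyr : ∃ k, y ^ r ^ k = 1) : Commute x y := by
  haveI : Fact q.Prime := ⟨hq⟩
  obtain ⟨k, hk⟩ := hyr
  obtain ⟨j, hj⟩ := IsPGroup.iff_card.1 hX
  obtain ⟨i, -, hi⟩ := (Nat.dvd_prime_pow hr).1 (orderOf_dvd_of_pow_eq_one hk)
  obtain ⟨m, hm⟩ := hX ⟨x, hx⟩
  refine h.commute_of_normalizes hp (Y := zpowers y) (zpowers_le.2 hy) ?_ ?_ hx (mem_zpowers y)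
    hq hr hqr ⟨m, congrArg Subtype.val hm⟩ ⟨k, hk⟩
  · rw [hj]; exact Nat.Coprime.pow_left j ((Nat.coprime_primes hq hp).2 hqp)
  · rw [Nat.card_zpowers, hi]; exact Nat.Coprime.pow_left i ((Nat.coprime_primes hr hp).2 hrp)

end CfsgLib.MinSimple12
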