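import Mathlib
import Cfsg.Agent.Lib.InvChar.SolvableTwo
import Cfsg.Agent.Lib.PLocal.Constraint

/-!
An abelian subgroup which is strongly closed in a Sylow 2-subgroup of a solvable group `X` is
normal modulo `O(X)`.
-/

set_option autoImplicit false
set_option linter.unusedSectionVars false
set_option linter.style.haveILetI false

namespace CfsgLib.MinSimple12

open Subgroup

variable {X : Type*} [Group X] [Finite X]

/-- An abelian strongly closed subgroup lies in `O₂` when the odd core is trivial. -/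
theorem closed_le_pCore [Group.IsSolvable X] (hO : Cfsg.pPrimeCore 2 X = ⊥) (T : Sylow 2 X)
    {V : Subgroup X} (hVT : V ≤ (T : Subgroup X))
    (hab : ∀ a ∈ V, ∀ b ∈ V, a * b = b * a)
    (hcl : ∀ x ∈ V, ∀ g : X, g * x * g⁻¹ ∈ (T : Subgroup X) → g * x * g⁻¹ ∈ V) :
    V ≤ Cfsg.pCore 2 X := by
  haveI : Fact (Nat.Prime 2) := ⟨Nat.prime_two⟩
  set R := Cfsg.pCore 2 X with hR
  haveI hRn : R.Normal := Cfsg.pCore_normal 2 _
  have hRT : R ≤ (T : Subgroup X) := CfsgLib.PCore.pCore_le_sylow T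
  set B₀ := V ⊓ R with hB₀
  haveI hBn : B₀.Normal :=
    ⟨fun x hx g => ⟨hcl x hx.1 g (hRT (hRn.conj_mem x hx.2 g)), hRn.conj_mem x hx.2 g⟩⟩
  set C := (centralizer ((R.map (QuotientGroup.mk' B₀) : Subgroup (X ⧸ B₀)) : Set (X ⧸ B₀))).comap
      (QuotientGroup.mk' B₀) ⊓ centralizer (B₀ : Set X) with hC
  haveI h1 : (R.map (QuotientGroup.mk' B₀)).Normal :=
    hRn.map _ (QuotientGroup.mk'_surjective B₀)
  haveI hCn : C.Normal := by
    haveI : (centralizer ((R.map (QuotientGroup.mk' B₀) : Subgroup (X ⧸ B₀)) :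
        Set (X ⧸ B₀))).Normal := inferInstance
    haveI : (centralizer (B₀ : Set X)).Normal := inferInstance
    rw [hC]
    infer_instance
  have hmem : ∀ g : X, g ∈ C ↔ (∀ r ∈ R, r⁻¹ * (g * r * g⁻¹) ∈ B₀) ∧
      ∀ r ∈ B₀, g * r = r * g := by
    intro g
    constructor
    · rintro ⟨hg1, hg2⟩
      refine ⟨fun r hr => ?_, fun r hr => (mem_centralizer_iff.1 hg2 r hr).symm⟩
      have := mem_centralizer_iff.1 hg1 _ (mem_map_of_mem (QuotientGroup.mk' B₀) hr)
      rw [← QuotientGroup.eq_one_iff]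
      show QuotientGroup.mk' B₀ (r⁻¹ * (g * r * g⁻¹)) = 1
      rw [map_mul, map_mul, map_mul, map_inv, map_inv, ← this]
      group
    · rintro ⟨hg1, hg2⟩
      refine ⟨mem_centralizer_iff.2 ?_, mem_centralizer_iff.2 fun r hr => (hg2 r hr).symm⟩
      rintro _ ⟨r, hr, rfl⟩
      have := (QuotientGroup.eq_one_iff _).2 (hg1 r hr)
      change QuotientGroup.mk' B₀ (r⁻¹ * (g * r * g⁻¹)) = 1 at this
      rw [map_mul, map_mul, map_mul, map_inv, map_inv, inv_mul_eq_one] at this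
      exact eq_mul_inv_iff_mul_eq.1 this
  have hCp : IsPGroup 2 C := by
    intro c
    obtain ⟨k, m, hm, hord⟩ := Nat.exists_eq_pow_mul_and_not_dvd (orderOf_pos c).ne' 2 (by norm_num)
    refine ⟨k, ?_⟩
    set g := c ^ 2 ^ k with hg
    have hgm : g ^ m = 1 := by rw [hg, ← pow_mul, ← hord, pow_orderOf_eq_one]
    have hodd : Odd (orderOf g) := by
      refine Nat.not_even_iff_odd.1 fun he => hm ?_
      exact (even_iff_two_dvd.1 he).trans (orderOf_dvd_of_pow_eq_one hgm)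
    have hgodd : Odd (orderOf (g : X)) := by rwa [Subgroup.orderOf_coe]
    obtain ⟨hg1, hg2⟩ := (hmem g).1 g.2
    have hcent : (g : X) ∈ centralizer (R : Set X) := mem_centralizer_iff.2 fun r hr => by
      refine (CfsgLib.InvChar.commute_of_odd_of_chain (r := r⁻¹ * ((g : X) * r * (g : X)⁻¹)) hgodd
        ?_ (hg2 _ (hg1 r hr)) (by group)).symm
      obtain ⟨j, hj⟩ := CfsgLib.PCore.pCore_isPGroup (p := 2) (G := X)
        ⟨_, (hg1 r hr).2⟩
      exact ⟨j, congrArg Subtype.val hj⟩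
    obtain ⟨j, hj⟩ := CfsgLib.PCore.pCore_isPGroup (p := 2) (G := X)
      ⟨(g : X), CfsgLib.InvChar.centralizer_pCore_le hO hcent⟩
    have h2 : orderOf (g : X) ∣ 2 ^ j := orderOf_dvd_of_pow_eq_one (congrArg Subtype.val hj :)
    have h3 : orderOf (g : X) = 1 :=
      Nat.eq_one_of_dvd_coprimes ((Nat.coprime_two_left.2 hgodd).pow_left j) h2 dvd_rfl
    exact Subtype.ext (orderOf_eq_one_iff.1 h3)
  intro b hb
  refine CfsgLib.PCore.le_pCore hCn hCp ((hmem b).2 ⟨fun r hr => ⟨?_, ?_⟩,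
    fun r hr => hab b hb r hr.1⟩)
  · have h := hcl b⁻¹ (V.inv_mem hb) r⁻¹
      ((T : Subgroup X).mul_mem ((T : Subgroup X).mul_mem ((T : Subgroup X).inv_mem (hRT hr))
        (hVT (V.inv_mem hb))) (by simpa using hRT hr))
    have e : r⁻¹ * (b * r * b⁻¹) = (r⁻¹ * b * r⁻¹⁻¹) * b⁻¹ := by group
    rw [e]
    refine V.mul_mem ?_ (V.inv_mem hb)
    have h' := V.inv_mem h
    simpa [mul_assoc] using h'
  · exact R.mul_mem (R.inv_mem hr) (hRn.conj_mem r hr b)

/-- An abelian strongly closed subgroup `V`: every element is a product from `O(X)` and `N(V)`. -/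
theorem exists_core_mul_normalizer [Group.IsSolvable X] (T : Sylow 2 X)
    {V : Subgroup X} (hVT : V ≤ (T : Subgroup X))
    (hab : ∀ a ∈ V, ∀ b ∈ V, a * b = b * a)
    (hcl : ∀ x ∈ V, ∀ g : X, g * x * g⁻¹ ∈ (T : Subgroup X) → g * x * g⁻¹ ∈ V) (x : X) :
    ∃ o ∈ Cfsg.pPrimeCore 2 X, ∃ n ∈ normalizer (V : Set X), x = o * n := by
  haveI : Fact (Nat.Prime 2) := ⟨Nat.prime_two⟩
  set O := Cfsg.pPrimeCore 2 X with hO
  haveI hOn : O.Normal := Cfsg.pPrimeCore_normal 2 _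
  have hcop : (Nat.card O).Coprime 2 := CfsgLib.PCore.pPrimeCore_coprime
  set q := QuotientGroup.mk' O with hq
  have hqs : Function.Surjective q := QuotientGroup.mk'_surjective O
  set T' : Sylow 2 (X ⧸ O) := T.mapSurjective hqs with hT'
  have hT'c : (T' : Subgroup (X ⧸ O)) = (T : Subgroup X).map q := Sylow.coe_mapSurjective hqs T
  set W := V.map q with hW
  have hWT : W ≤ (T' : Subgroup (X ⧸ O)) := hT'c ▸ map_mono hVT
  have habW : ∀ a ∈ W, ∀ b ∈ W, a * b = b * a := by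
    rintro _ ⟨a, ha, rfl⟩ _ ⟨b, hb, rfl⟩
    rw [← map_mul, ← map_mul, hab a ha b hb]
  have hclW : ∀ y ∈ W, ∀ g, g * y * g⁻¹ ∈ (T' : Subgroup (X ⧸ O)) → g * y * g⁻¹ ∈ W := by
    rintro _ ⟨a, ha, rfl⟩ g hg
    obtain ⟨g, rfl⟩ := hqs g
    rw [← map_inv, ← map_mul, ← map_mul] at hg ⊢
    set y := g * a * g⁻¹ with hy
    rw [hT'c] at hg
    have hyTO : y ∈ (T : Subgroup X) ⊔ O := by
      have : y ∈ ((T : Subgroup X).map q).comap q := hg
      rwa [comap_map_eq, QuotientGroup.ker_mk'] at this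
    obtain ⟨j, hj⟩ := T.2 ⟨a, hVT ha⟩
    have hyp : IsPGroup 2 (zpowers y) := IsPGroup.of_card (n := (Nat.factorization (orderOf y)) 2) (by
      rw [Nat.card_zpowers]
      obtain ⟨i, -, hi⟩ := (Nat.dvd_prime_pow Nat.prime_two).1 (orderOf_dvd_of_pow_eq_one
        (show y ^ 2 ^ j = 1 by
          rw [hy, conj_pow, show a ^ 2 ^ j = 1 from congrArg Subtype.val hj]; simp))
      rw [hi, Nat.Prime.factorization_pow Nat.prime_two, Finsupp.single_eq_same])
    let S := (T : Subgroup X) ⊔ O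
    obtain ⟨Q, hQ⟩ := (hyp.comap_of_injective S.subtype S.subtype_injective).exists_le_sylow
    let TS : Sylow 2 S := T.subtype le_sup_left
    obtain ⟨h, hh⟩ := MulAction.exists_smul_eq S Q TS
    have hyQ : (⟨y, hyTO⟩ : S) ∈ (Q : Subgroup S) := hQ (mem_zpowers y)
    have h1 : h * ⟨y, hyTO⟩ * h⁻¹ ∈ (TS : Subgroup S) := by
      rw [← SetLike.mem_coe, ← hh]
      exact ⟨⟨y, hyTO⟩, hyQ, rfl⟩
    have h1' : (h : X) * y * (h : X)⁻¹ ∈ (T : Subgroup X) := h1
    obtain ⟨t, ht, o, ho, hto⟩ := mem_sup_of_normal_right.1 h.2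
    have h2 : o * y * o⁻¹ ∈ (T : Subgroup X) := by
      rw [← hto] at h1'
      have := (T : Subgroup X).mul_mem ((T : Subgroup X).mul_mem ((T : Subgroup X).inv_mem ht) h1') ht
      simpa [mul_assoc] using this
    have h3 : (o * g) * a * (o * g)⁻¹ ∈ V := hcl a ha (o * g) (by simpa [hy, mul_assoc] using h2)
    refine ⟨_, h3, ?_⟩
    have hqo : q o = 1 := (QuotientGroup.eq_one_iff o).2 ho
    simp [hy, map_mul, map_inv, hqo]
  have hle := closed_le_pCore CfsgLib.PCore.pPrimeCore_quotient_pPrimeCore T' hWT habW hclW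
  have hcoreT := CfsgLib.PCore.pCore_le_sylow T'
  have hVp : IsPGroup 2 V := T.2.to_le hVT
  obtain ⟨o, ho, hox⟩ := CfsgLib.PLocal.exists_mul_mem_normalizer hcop hVp (x := x) fun y hy => by
    rw [map_mul, map_mul, map_inv]
    exact hclW _ (mem_map_of_mem q hy) (q x)
      (hcoreT ((Cfsg.pCore_normal 2 _).conj_mem _ (hle (mem_map_of_mem q hy)) (q x)))
  exact ⟨o⁻¹, O.inv_mem ho, o * x, hox, by group⟩

end CfsgLib.MinSimple12
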