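import Mathlib
import Cfsg.Agent.Lib.InvChar.SolvableTwo
import Cfsg.Agent.Lib.PLocal.Constraint
import Cfsg.Agent.Lib.PLocal.PStableQuot
import Cfsg.Agent.Lib.PLocal.NormalizerStable
import Cfsg.Agent.Lib.PLocal.NoSLTwo
import Cfsg.Agent.Lib.Techniques.StableControl
import Cfsg.Agent.Lib.PCore.PSolvable

/-!
Solvable groups, and groups all of whose proper subgroups are solvable: constraint, Glauberman
factorisation and Glauberman control of fusion for the primes at least 5.
-/

set_option autoImplicit false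
set_option linter.unusedSectionVars false
set_option linter.style.haveILetI false

namespace CfsgLib.MinSimple12

open Subgroup
open scoped MatrixGroups

universe u

/-- A finite solvable group is constrained at every prime. -/
theorem constrained_of_solvable {G : Type u} [Group G] [Finite G] [Group.IsSolvable G] (p : ℕ)
    [Fact p.Prime] : Cfsg.IsPConstrained p G := by
  rw [CfsgLib.PLocal.isPConstrained_iff]
  exact CfsgLib.InvChar.centralizer_pCore_le CfsgLib.PCore.pPrimeCore_quotient_pPrimeCore

/-- `SL(2, p)` is involved in no solvable group for `p ≥ 5`. -/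
theorem not_involves_sl2 {X : Type u} [Group X] [Finite X] [Group.IsSolvable X] (p : ℕ)
    [Fact p.Prime] (hp5 : 5 ≤ p) : ¬ Cfsg.Involves (SL(2, ZMod p)) X := by
  rintro ⟨K, R, hn, ⟨e⟩⟩
  haveI := hn
  haveI : Group.IsSolvable (↥K ⧸ R.subgroupOf K) :=
    Group.isSolvable_of_surjective (QuotientGroup.mk'_surjective (R.subgroupOf K))
  haveI : Group.IsSolvable SL(2, ZMod p) :=
    Group.isSolvable_of_surjective (f := e.toMonoidHom) e.surjective
  exact CfsgLib.PLocal.not_isPSolvable_sl2 hp5 CfsgLib.PCore.isPSolvable_of_isSolvable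

/-- All sections are normalizer `p`-stable when the `p`-locals are solvable. -/
theorem stable_of_local_solvable {G : Type u} [Group G] [Finite G] {p : ℕ} [Fact p.Prime]
    (hp5 : 5 ≤ p)
    (h : ∀ P : Subgroup G, IsPGroup p P → P ≠ ⊥ →
      Group.IsSolvable ↥(normalizer (P : Set G))) :
    Cfsg.IsNormalizerPStable p G :=
  CfsgLib.PLocal.isNormalizerPStable_of_not_involves (by omega)
    (fun P hP hP1 => by
      haveI : Group.IsSolvable ↥(normalizer (P : Set G)) := h P hP hP1
      exact not_involves_sl2 (X := ↥(normalizer (P : Set G))) p hp5)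
    ⊤ (Subgroup.topEquiv : (⊤ : Subgroup G) ≃* G).toMonoidHom
    (Subgroup.topEquiv : (⊤ : Subgroup G) ≃* G).surjective

/-- Glauberman factorisation of a solvable group, `p ≥ 5`. -/
theorem solvable_factor_zj {G : Type u} [Group G] [Finite G] [Group.IsSolvable G] {p : ℕ}
    [Fact p.Prime] (hp5 : 5 ≤ p) (P : Sylow p G) :
    Cfsg.pPrimeCore p G ⊔ normalizer (CfsgLib.PLocal.zj 0 (P : Subgroup G) : Set G) = ⊤ := by
  refine CfsgLib.PLocal.sup_normalizer_zj_eq_top CfsgLib.PCore.pPrimeCore_coprime P ?_
  have h := CfsgLib.PLocal.zj_normal (G := G ⧸ Cfsg.pPrimeCore p G) (e := 0) (by omega : p ≠ 2)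
    (Or.inl rfl) (CfsgLib.PLocal.isPConstrained_iff.mp (constrained_of_solvable p))
    (fun Q hQn hQ => CfsgLib.Techniques.StableQuot.isPStableOn_of_stable
      (stable_of_local_solvable hp5 fun _ _ _ => inferInstance) Q hQ)
    (P.mapSurjective (QuotientGroup.mk'_surjective (Cfsg.pPrimeCore p G)))
  rwa [Sylow.coe_mapSurjective] at h

/-- Glauberman: with solvable `p`-locals, the normalizer of `Z(J(P))` controls fusion in `P`. -/
theorem zj_control {G : Type u} [Group G] [Finite G] {p : ℕ} [Fact p.Prime] (hp5 : 5 ≤ p)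
    (h : ∀ P : Subgroup G, IsPGroup p P → P ≠ ⊥ →
      Group.IsSolvable ↥(normalizer (P : Set G)))
    (P : Sylow p G) {x : G} (hx : x ∈ (P : Subgroup G)) {g : G}
    (hg : g * x * g⁻¹ ∈ (P : Subgroup G)) :
    ∃ n ∈ normalizer (CfsgLib.PLocal.zj 0 (P : Subgroup G) : Set G),
      n * x * n⁻¹ = g * x * g⁻¹ := by
  have hc := CfsgLib.Techniques.StableQuot.fusCtrl_zJA (p := p) (by omega) G
    (stable_of_local_solvable hp5 h) P (zpowers x) g (Subgroup.mem_top _) (zpowers_le.2 hx) (by
      rw [MonoidHom.map_zpowers, zpowers_le]; exact hg)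
  rw [CfsgLib.Techniques.Fusion.stepGroups, Set.image_singleton,
    CfsgLib.Techniques.StableQuot.inducedFunctor_zJAFun, ← CfsgLib.PLocal.zj_zero] at hc
  obtain ⟨n, hn, hn'⟩ := hc.exists_mem
  exact ⟨n, hn, hn' x (mem_zpowers x)⟩

end CfsgLib.MinSimple12
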