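import Mathlib
import Cfsg.Prelude.Def_Balance
import Cfsg.Agent.Lib.MinSimple12.Closed
import Cfsg.Agent.Lib.MinSimple12.Solvable
import Cfsg.Agent.Lib.InvChar.InvolutionCores
import Cfsg.Agent.Lib.Signalizer74.Main
import Cfsg.Agent.Lib.Solvable.CoprimeGeneration

/-!
A simple group with solvable proper subgroups and a strongly closed elementary abelian 2-subgroup
`B` of order at least 8: a proper subgroup `N` containing `N(B)` and every `C(b)`.
-/

set_option autoImplicit false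
set_option linter.unusedSectionVars false
set_option linter.style.haveILetI false

namespace CfsgLib.MinSimple12

open Subgroup CfsgLib.InvChar.InvolutionCores

universe u

variable {G : Type u} [Group G] [Finite G]

/-- `B` is elementary abelian of order at least 8 and strongly closed in every 2-subgroup over it. -/
structure Closed (B : Subgroup G) : Prop where
  elem : Cfsg.IsElementaryAbelian 2 B
  rank : 8 ≤ Nat.card B
  closed : ∀ T : Subgroup G, IsPGroup 2 T → B ≤ T → ∀ x ∈ B, ∀ g : G, g * x * g⁻¹ ∈ T →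
    g * x * g⁻¹ ∈ B

theorem elem_comm {V : Subgroup G} (hV : Cfsg.IsElementaryAbelian 2 V) {a b : G} (ha : a ∈ V)
    (hb : b ∈ V) : a * b = b * a :=
  congrArg Subtype.val (hV.1.is_comm.comm (⟨a, ha⟩ : V) ⟨b, hb⟩)

theorem elem_mono {V W : Subgroup G} (hV : Cfsg.IsElementaryAbelian 2 V) (h : W ≤ V) :
    Cfsg.IsElementaryAbelian 2 W :=
  ⟨⟨⟨fun a b => Subtype.ext (elem_comm hV (h a.2) (h b.2))⟩⟩, fun a ha => hV.2 a (h ha)⟩

theorem elem_orderOf {V : Subgroup G} (hV : Cfsg.IsElementaryAbelian 2 V) {a : G} (ha : a ∈ V)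
    (h1 : a ≠ 1) : orderOf a = 2 :=
  orderOf_eq_prime (hp := ⟨Nat.prime_two⟩) (hV.2 a ha) h1

theorem elem_isPGroup {V : Subgroup G} (hV : Cfsg.IsElementaryAbelian 2 V) : IsPGroup 2 V :=
  fun x => ⟨1, Subtype.ext (by simpa using hV.2 _ x.2)⟩

theorem elem_not_isCyclic {V : Subgroup G} (hV : Cfsg.IsElementaryAbelian 2 V)
    (h4 : 2 < Nat.card V) : ¬ IsCyclic V := fun hc => by
  haveI := hc
  obtain ⟨g, hg⟩ := IsCyclic.exists_generator (α := V)
  have h1 : Nat.card V ≤ 2 := by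
    rw [← orderOf_eq_card_of_forall_mem_zpowers hg]
    exact Nat.le_of_dvd two_pos (orderOf_dvd_of_pow_eq_one
      (show g ^ 2 = 1 from Subtype.ext (by simpa using hV.2 _ g.2)))
  omega

/-- A subgroup of odd order normalized by a noncyclic elementary 2-group lies in any subgroup
containing all the centralizers of its involutions. -/
theorem odd_le {V K N : Subgroup G} (hV : Cfsg.IsElementaryAbelian 2 V) (h4 : 2 < Nat.card V)
    (hn : ∀ v ∈ V, ∀ k ∈ K, v * k * v⁻¹ ∈ K) (hodd : ¬ 2 ∣ Nat.card K)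
    (hc : ∀ v ∈ V, v ≠ 1 → centralizer ({v} : Set G) ≤ N) : K ≤ N := by
  haveI := hV.1
  haveI : Fact (Nat.Prime 2) := ⟨Nat.prime_two⟩
  have hnorm : V ≤ normalizer (K : Set G) := fun v hv => mem_normalizer_iff.2 fun k =>
    ⟨hn v hv k, fun hk => by simpa [mul_assoc] using hn v⁻¹ (V.inv_mem hv) _ hk⟩
  obtain ⟨n, hn'⟩ := IsPGroup.iff_card.mp (elem_isPGroup hV)
  rw [← CfsgLib.CoprimeGeneration.iSup_centralizer_eq V K (elem_not_isCyclic hV h4) hnorm
    (hn' ▸ Nat.Coprime.pow_left n (Nat.prime_two.coprime_iff_not_dvd.mpr hodd))]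
  exact iSup₂_le fun v hv => inf_le_right.trans (hc v hv.1 hv.2)

/-- A solvable subgroup `X` containing an abelian subgroup closed in its Sylow subgroup. -/
theorem sub_le {X V N : Subgroup G} [Group.IsSolvable X] (T : Sylow 2 X)
    (hV : Cfsg.IsElementaryAbelian 2 V) (h4 : 2 < Nat.card V)
    (hVT : V ≤ (T : Subgroup X).map X.subtype)
    (hcl : ∀ x ∈ V, ∀ g ∈ X, g * x * g⁻¹ ∈ (T : Subgroup X).map X.subtype → g * x * g⁻¹ ∈ V)
    (hc : ∀ v ∈ V, v ≠ 1 → centralizer ({v} : Set G) ≤ N)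
    (hn : ∀ x ∈ X, x ∈ normalizer (V : Set G) → x ∈ N) : X ≤ N := by
  haveI : Fact (Nat.Prime 2) := ⟨Nat.prime_two⟩
  have hVX : V ≤ X := hVT.trans (map_subtype_le _)
  set V' := V.subgroupOf X with hV'
  have hmem : ∀ y : X, y ∈ V' ↔ (y : G) ∈ V := fun y => mem_subgroupOf
  have hVT' : V' ≤ (T : Subgroup X) := fun y hy => by
    obtain ⟨z, hz, hzy⟩ := hVT ((hmem y).1 hy)
    rwa [← Subtype.ext (hzy : (z : G) = (y : G))]
  intro x hx
  obtain ⟨o, ho, n, hn', hxo⟩ := exists_core_mul_normalizer T (V := V') hVT'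
    (fun a ha b hb => Subtype.ext (elem_comm hV ((hmem a).1 ha) ((hmem b).1 hb)))
    (fun a ha g hg => (hmem _).2 (hcl a ((hmem a).1 ha) g g.2 ⟨_, hg, rfl⟩)) ⟨x, hx⟩
  have hO : (Cfsg.pPrimeCore 2 X).map X.subtype ≤ N := by
    refine odd_le hV h4 (fun v hv => ?_) ?_ hc
    · rintro _ ⟨y, hy, rfl⟩
      exact ⟨⟨v, hVX hv⟩ * y * ⟨v, hVX hv⟩⁻¹, (Cfsg.pPrimeCore_normal 2 _).conj_mem y hy _, rfl⟩
    · rw [card_map_of_injective X.subtype_injective]
      exact CfsgLib.PCore.not_dvd_card_pPrimeCore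
  rw [show x = (o : G) * (n : G) from congrArg Subtype.val hxo]
  refine N.mul_mem (hO ⟨o, ho, rfl⟩) (hn n n.2 ?_)
  refine mem_normalizer_iff.2 fun y => ⟨fun hy => ?_, fun hy => ?_⟩
  · exact (hmem _).1 ((mem_normalizer_iff.1 hn' ⟨y, hVX hy⟩).1 ((hmem _).2 hy))
  · have hyX : y ∈ X := by
      have := X.mul_mem (X.mul_mem (X.inv_mem n.2) (hVX hy)) n.2
      simpa [mul_assoc] using this
    exact (hmem _).1 ((mem_normalizer_iff.1 hn' ⟨y, hyX⟩).2 ((hmem _).2 hy))

/-- Proper centralizers in a nonabelian simple group. -/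
theorem centralizer_ne_top [IsSimpleGroup G] (hns : ¬ Group.IsSolvable G) {a : G} (ha : a ≠ 1) :
    centralizer ({a} : Set G) ≠ ⊤ := fun h => by
  have hc : a ∈ Subgroup.center G := by
    rw [mem_center_iff]
    intro g
    exact mem_centralizer_singleton_iff.1 (h ▸ mem_top g)
  rcases (inferInstance : (Subgroup.center G).Normal).eq_bot_or_eq_top with h1 | h1
  · exact ha (mem_bot.1 (h1 ▸ hc))
  · exact hns (Group.isSolvable_of_comm fun x y => (mem_center_iff.1 (h1 ▸ mem_top x) y).symm)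

/-- The setting: `N` is a proper subgroup containing `N(B)` and every `C(b)`, and controlling
fusion in `B`. -/
structure Setup (B N : Subgroup G) : Prop where
  simple : IsSimpleGroup G
  nsolv : ¬ Group.IsSolvable G
  solv : ∀ H : Subgroup G, H ≠ ⊤ → Group.IsSolvable H
  cl : Closed B
  ne_top : N ≠ ⊤
  cent_le : ∀ b ∈ B, b ≠ 1 → centralizer ({b} : Set G) ≤ N
  norm_le : normalizer (B : Set G) ≤ N
  fus : ∀ b ∈ B, ∀ g : G, g * b * g⁻¹ ∈ B → ∃ h ∈ N, h * b * h⁻¹ = g * b * g⁻¹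

/-- The core functor on the involutions of `B` has odd completion. -/
theorem exists_odd_invariant [IsSimpleGroup G] (hns : ¬ Group.IsSolvable G)
    (hsolv : ∀ H : Subgroup G, H ≠ ⊤ → Group.IsSolvable H) {B : Subgroup G} (hB : Closed B) :
    ∃ W : Subgroup G, ¬ 2 ∣ Nat.card W ∧ (∀ b ∈ B, b ≠ 1 → cc b ≤ W) ∧
      W = ⨆ a : {a : G // a ∈ B ∧ a ≠ 1}, cc (a : G) := by
  haveI : Fact (Nat.Prime 2) := ⟨Nat.prime_two⟩
  have hcs : ∀ b : G, b ≠ 1 → Group.IsSolvable ↥(centralizer ({b} : Set G)) := fun b hb =>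
    hsolv _ (centralizer_ne_top hns hb)
  have hθ : Cfsg.IsSolvableSignalizerFunctor 2 B cc := by
    refine ⟨⟨fun a _ _ => cc_le a, fun a _ _ h => ?_, fun a ha _ b hb x hx => ?_,
      fun a ha ha1 b hb hb1 y hy => ?_⟩, fun a _ ha1 => ?_⟩
    · exact Nat.not_even_iff_odd.2 (odd_card_cc a) (even_iff_two_dvd.2 h)
    · exact conj_mem_cc (elem_comm hB.elem hb ha) hx
    · haveI := hcs b hb1
      exact balance (a := b) (b := a) (constrained_of_solvable 2) (elem_orderOf hB.elem ha ha1)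
        (elem_comm hB.elem hb ha) hy.1 (mem_centralizer_singleton_iff.1 hy.2)
    · haveI := hcs a ha1
      exact Group.isSolvable_of_isSolvable_injective (Subgroup.inclusion_injective (cc_le a))
  obtain ⟨hW, -⟩ := CfsgLib.Signalizer74.completion hB.elem (by have := hB.rank; omega) hθ
  exact ⟨_, hW.2.1, fun b hb hb1 => le_iSup
    (fun a : {a : G // a ∈ B ∧ a ≠ 1} => cc (a : G)) ⟨b, hb, hb1⟩, rfl⟩

/-- Every proper overgroup of `B` lies in a subgroup containing `N(B)` and all `C(b)`. -/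
theorem overgroup_le {B N X : Subgroup G} [Group.IsSolvable X] (hB : Closed B)
    (hc : ∀ b ∈ B, b ≠ 1 → centralizer ({b} : Set G) ≤ N)
    (hn : normalizer (B : Set G) ≤ N) (hBX : B ≤ X) : X ≤ N := by
  haveI : Fact (Nat.Prime 2) := ⟨Nat.prime_two⟩
  obtain ⟨T, hT⟩ := ((elem_isPGroup hB.elem).comap_of_injective X.subtype
    X.subtype_injective).exists_le_sylow
  have hBT : B ≤ (T : Subgroup X).map X.subtype := fun b hb => ⟨⟨b, hBX hb⟩, hT hb, rfl⟩
  exact sub_le T hB.elem (by have := hB.rank; omega) hBT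
    (fun x hx g _ hg => hB.closed _ (T.2.map _) hBT x hx g hg) hc (fun x _ hx => hn hx)

/-- Construction of the setting from a proper subgroup `M ≥ B` controlling fusion in `B`. -/
theorem exists_setup [hs : IsSimpleGroup G] (hns : ¬ Group.IsSolvable G)
    (hsolv : ∀ H : Subgroup G, H ≠ ⊤ → Group.IsSolvable H) {B M : Subgroup G} (hB : Closed B)
    (hM : M ≠ ⊤) (hBM : B ≤ M)
    (hfus : ∀ b ∈ B, ∀ g : G, g * b * g⁻¹ ∈ B → ∃ h ∈ M, h * b * h⁻¹ = g * b * g⁻¹) :
    ∃ N, Setup B N := by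
  haveI : Fact (Nat.Prime 2) := ⟨Nat.prime_two⟩
  obtain ⟨W, hWodd, hWle, hWeq⟩ := exists_odd_invariant hns hsolv hB
  have hBbot : B ≠ ⊥ := fun h => by
    have := hB.rank
    rw [h, card_bot] at this
    omega
  -- `N(B)` normalizes `W`
  have hNW : normalizer (B : Set G) ≤ normalizer (W : Set G) := by
    have key : ∀ g ∈ normalizer (B : Set G), ∀ w ∈ W, g * w * g⁻¹ ∈ W := by
      intro g hg w hw
      rw [hWeq] at hw
      refine Subgroup.iSup_induction (C := fun w => g * w * g⁻¹ ∈ W) _ hw (fun a x hx => ?_)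
        (by simp) (fun x y hx hy => ?_)
      · refine hWle _ ((mem_normalizer_iff.1 hg _).1 a.2.1) ?_ (cc_conj g hx)
        exact fun h => a.2.2 (conj_eq_one_iff.1 h)
      · rw [show g * (x * y) * g⁻¹ = (g * x * g⁻¹) * (g * y * g⁻¹) by group]
        exact W.mul_mem hx hy
    exact fun g hg => mem_normalizer_iff.2 fun w => ⟨key g hg w, fun h => by
      simpa [mul_assoc] using key g⁻¹ (inv_mem hg) _ h⟩
  -- every centralizer splits over its core and the normalizer of `B`
  have hCdec : ∀ b ∈ B, b ≠ 1 → ∀ x ∈ centralizer ({b} : Set G),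
      ∃ o ∈ cc b, ∃ n ∈ normalizer (B : Set G), x = o * n := by
    intro b hb hb1 x hx
    set X := centralizer ({b} : Set G) with hX
    haveI := hsolv X (centralizer_ne_top hns hb1)
    have hBX : B ≤ X := fun c hc => mem_centralizer_singleton_iff.2 (elem_comm hB.elem hc hb)
    obtain ⟨T, hT⟩ := ((elem_isPGroup hB.elem).comap_of_injective X.subtype
      X.subtype_injective).exists_le_sylow
    have hBT : B ≤ (T : Subgroup X).map X.subtype := fun c hc => ⟨⟨c, hBX hc⟩, hT hc, rfl⟩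
    obtain ⟨o, ho, n, hn, hxo⟩ := exists_core_mul_normalizer T (V := B.subgroupOf X)
      (fun y hy => hT hy)
      (fun a ha c hc => Subtype.ext (elem_comm hB.elem (mem_subgroupOf.1 ha) (mem_subgroupOf.1 hc)))
      (fun a ha g hg => mem_subgroupOf.2
        (hB.closed _ (T.2.map _) hBT a (mem_subgroupOf.1 ha) g ⟨_, hg, rfl⟩)) ⟨x, hx⟩
    refine ⟨o, ⟨o, ho, rfl⟩, n, mem_normalizer_iff.2 fun y => ⟨fun hy => ?_, fun hy => ?_⟩,
      congrArg Subtype.val hxo⟩
    · exact mem_subgroupOf.1 ((mem_normalizer_iff.1 hn ⟨y, hBX hy⟩).1 (mem_subgroupOf.2 hy))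
    · have hyX : y ∈ X := by
        have := X.mul_mem (X.mul_mem (X.inv_mem n.2) (hBX hy)) n.2
        simpa [mul_assoc] using this
      exact mem_subgroupOf.1 ((mem_normalizer_iff.1 hn ⟨y, hyX⟩).2 (mem_subgroupOf.2 hy))
  classical
  set N := if W = ⊥ then normalizer (B : Set G) else normalizer (W : Set G) with hN
  have hne : N ≠ ⊤ := by
    rw [hN]
    split
    · intro h
      rcases (normalizer_eq_top_iff.1 h).eq_bot_or_eq_top with h1 | h1
      · exact hBbot h1
      · exact hns (Group.isSolvable_of_comm fun x y =>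
          elem_comm hB.elem (h1 ▸ mem_top x) (h1 ▸ mem_top y))
    · next hW =>
      intro h
      rcases (normalizer_eq_top_iff.1 h).eq_bot_or_eq_top with h1 | h1
      · exact hW h1
      · apply hWodd
        rw [h1, Subgroup.card_top]
        refine dvd_trans ?_ (Subgroup.card_subgroup_dvd_card B)
        obtain ⟨n, hn⟩ := IsPGroup.iff_card.mp (elem_isPGroup hB.elem)
        rcases n with _ | n
        · have := hB.rank
          omega
        · exact hn ▸ dvd_pow_self 2 n.succ_ne_zero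
  have hn : normalizer (B : Set G) ≤ N := by
    rw [hN]
    split
    · exact le_rfl
    · exact hNW
  have hc : ∀ b ∈ B, b ≠ 1 → centralizer ({b} : Set G) ≤ N := by
    intro b hb hb1 x hx
    obtain ⟨o, ho, n, hn', rfl⟩ := hCdec b hb hb1 x hx
    refine N.mul_mem ?_ (hn hn')
    rw [hN]
    split
    · next hW =>
      have h1 : o = 1 := mem_bot.1 (hW ▸ hWle b hb hb1 ho)
      rw [h1]
      exact one_mem _
    · exact le_normalizer (hWle b hb hb1 ho)
  haveI := hsolv M hM
  have hMN := overgroup_le hB hc hn hBM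
  exact ⟨N, hs, hns, hsolv, hB, hne, hc, hn, fun b hb g hg =>
    (hfus b hb g hg).imp fun h hh => ⟨hMN hh.1, hh.2⟩⟩

end CfsgLib.MinSimple12
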