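import Mathlib
import Cfsg.Agent.Lib.MinSimple12.Setup
import Cfsg.Agent.Lib.MinSimple12.PNilp
import Cfsg.Agent.Lib.SFour.StrongControl
import Cfsg.Agent.Lib.SFour.Functor
import Cfsg.Agent.Lib.Involutions.Fusion
import Cfsg.Agent.Lib.Involutions.BrauerSuzuki
import Cfsg.Agent.Lib.PLocal5.PGroupBasic
import Cfsg.Agent.Lib.Tech46.CoprimeGen

/-!
A minimal simple group whose subgroups of order prime to `p` (`p ≥ 5`) are nilpotent yields the
setting of `MinSimple12.Setup`.
-/

set_option autoImplicit false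
set_option linter.unusedSectionVars false
set_option linter.style.haveILetI false

namespace CfsgLib.MinSimple12

open Subgroup CfsgLib.Involutions

universe u

variable {G : Type u} [Group G] [Finite G]

theorem no_isolated [IsSimpleGroup G] (hns : ¬ Group.IsSolvable G) (h2 : 2 ∣ Nat.card G) {z : G}
    (hz : Cfsg.IsIsolatedInvolution z) : False := by
  haveI : Fact (Nat.Prime 2) := ⟨Nat.prime_two⟩
  have h := CfsgLib.Involutions.zstar G z hz
  have hbot : Cfsg.pPrimeCore 2 G = ⊥ := by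
    rcases (Cfsg.pPrimeCore_normal 2 G).eq_bot_or_eq_top with h1 | h1
    · exact h1
    · refine absurd ?_ (CfsgLib.PCore.not_dvd_card_pPrimeCore (p := 2) (G := G))
      rwa [h1, Subgroup.card_top]
  have hc : z ∈ Subgroup.center G := by
    rw [mem_center_iff]
    intro g
    have := h g
    rw [hbot, mem_bot, mul_inv_eq_one, mul_inv_eq_iff_eq_mul] at this
    exact this
  rcases (inferInstance : (Subgroup.center G).Normal).eq_bot_or_eq_top with h1 | h1
  · exact ne_one_of_involution hz.1 (mem_bot.1 (h1 ▸ hc))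
  · exact hns (Group.isSolvable_of_comm fun x y => (mem_center_iff.1 (h1 ▸ mem_top x) y).symm)

/-- An element of odd order normalizing a set of at most three involutions fixing one of them. -/
theorem PNil.normalizer_centralizes {p : ℕ} (h : PNil p G) (hp : p.Prime) (hp3 : 3 < p)
    {B : Subgroup G} (hB : Cfsg.IsElementaryAbelian 2 B) (h4 : Nat.card B ≤ 4) {z : G} (hz : z ∈ B)
    {y : G} (hy : y ∈ normalizer (B : Set G)) (hodd : Odd (orderOf y)) : y * z = z * y := by
  classical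
  by_cases hz1 : z = 1
  · simp [hz1]
  obtain ⟨m, hm⟩ := hodd
  haveI : Fintype B := Fintype.ofFinite B
  set f : G → G := fun x => y * x * y⁻¹ with hf
  have hfinj : Function.Injective f := fun a b e => by simpa [hf] using e
  have hfB : ∀ x ∈ B, f x ∈ B := fun x hx => (mem_normalizer_iff.1 hy x).1 hx
  have hf1 : ∀ x, f x = 1 → x = 1 := fun x e => conj_eq_one_iff.1 e
  set a := f z
  set b := f a
  set c := f b
  have ha : a ∈ B := hfB _ hz
  have hb : b ∈ B := hfB _ ha
  have hc : c ∈ B := hfB _ hb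
  have ha1 : a ≠ 1 := fun e => hz1 (hf1 _ e)
  have hb1 : b ≠ 1 := fun e => ha1 (hf1 _ e)
  have hc1 : c ≠ 1 := fun e => hb1 (hf1 _ e)
  -- `y ^ 3` fixes `z`
  have h3 : Commute (y ^ 3) z ∨ Commute (y ^ 2) z := by
    by_cases hbz : b = z
    · right
      show y ^ 2 * z = z * y ^ 2
      have e : y * (y * z * y⁻¹) * y⁻¹ = z := hbz
      calc y ^ 2 * z = (y * (y * z * y⁻¹) * y⁻¹) * y ^ 2 := by rw [pow_two]; group
        _ = z * y ^ 2 := by rw [e]
    by_cases haz : a = z
    · exact absurd (show b = z by show f a = z; rw [haz]; exact haz) hbz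
    left
    have hab : a ≠ b := fun e => haz (hfinj e).symm
    have hcz : c = z := by
      by_contra hne
      have hca : c ≠ a := fun e => hbz (hfinj e)
      have hcb : c ≠ b := fun e => hab (hfinj e).symm
      have hcard : ({1, z, a, b, c} : Finset G).card = 5 := by
        simp [Finset.card_insert_of_notMem, Ne.symm hz1, Ne.symm ha1, Ne.symm hb1, Ne.symm hc1,
          Ne.symm haz, Ne.symm hbz, Ne.symm hne, hab, Ne.symm hca, Ne.symm hcb]
      have hsub : ({1, z, a, b, c} : Finset G) ⊆ (B : Set G).toFinset := by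
        intro x hx
        simp only [Finset.mem_insert, Finset.mem_singleton] at hx
        rw [Set.mem_toFinset]
        rcases hx with rfl | rfl | rfl | rfl | rfl
        exacts [B.one_mem, hz, ha, hb, hc]
      have := Finset.card_le_card hsub
      have e : Nat.card B = (B : Set G).toFinset.card := by
        rw [← Set.ncard_eq_toFinset_card', ← Nat.card_coe_set_eq]
        rfl
      omega
    show y ^ 3 * z = z * y ^ 3
    have e : y * (y * (y * z * y⁻¹) * y⁻¹) * y⁻¹ = z := hcz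
    calc y ^ 3 * z = (y * (y * (y * z * y⁻¹) * y⁻¹) * y⁻¹) * y ^ 3 := by
          rw [pow_succ, pow_two]; group
      _ = z * y ^ 3 := by rw [e]
  rcases h3 with h3 | h2
  · -- split off the 3-part
    obtain ⟨v, r, hr, hord⟩ := Nat.exists_eq_pow_mul_and_not_dvd (orderOf_pos y).ne' 3 (by norm_num)
    have h5 : Commute z (y ^ r) := h.commute_prime hp Nat.prime_two Nat.prime_three (by norm_num)
      (by omega) (by omega) (elem_isPGroup hB) hz (pow_mem hy r)
      ⟨v, by rw [← pow_mul, mul_comm, ← hord, pow_orderOf_eq_one]⟩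
    have hg : (1 : ℤ) = (3 : ℕ) * Nat.gcdA 3 r + (r : ℤ) * Nat.gcdB 3 r := by
      rw [← Nat.gcd_eq_gcd_ab, Nat.prime_three.coprime_iff_not_dvd.2 hr, Nat.cast_one]
    have h6 : Commute (y ^ (((3 : ℕ) : ℤ) * Nat.gcdA 3 r + (r : ℤ) * Nat.gcdB 3 r)) z := by
      rw [zpow_add, zpow_mul, zpow_mul, zpow_natCast, zpow_natCast]
      exact (h3.zpow_left _).mul_left (h5.symm.zpow_left _)
    rw [← hg, zpow_one] at h6
    exact h6.eq
  · have e : y = (y ^ 2) ^ (m + 1) := by
      rw [← pow_mul, show 2 * (m + 1) = orderOf y + 1 by omega, pow_succ, pow_orderOf_eq_one,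
        one_mul]
    rw [e]
    exact (h2.pow_left _).eq

/-- Existence of the setting. -/
theorem exists_setup_of_pnil [IsSimpleGroup G] (hns : ¬ Group.IsSolvable G)
    (hsolv : ∀ H : Subgroup G, H ≠ ⊤ → Group.IsSolvable H) (h2 : 2 ∣ Nat.card G) {p : ℕ}
    (h : PNil p G) (hp : p.Prime) (hp3 : 3 < p) :
    ∃ B N : Subgroup G, Setup B N := by
  haveI : Fact (Nat.Prime 2) := ⟨Nat.prime_two⟩
  obtain ⟨S⟩ : Nonempty (Sylow 2 G) := inferInstance
  obtain ⟨W, hW, hWlo, -, hctrl⟩ := CfsgLib.SFour.exists_char_controls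
    (fun _ W h1 h2 h3 => CfsgLib.SFour.exists_ctrl W h1 h2 h3) (h.not_involves hp hp3) S
  set W' := W.map (S : Subgroup G).subtype with hW'
  set M := normalizer (W' : Set G) with hM
  have hS1 : (S : Subgroup G) ≠ ⊥ := S.ne_bot_of_dvd_card h2
  haveI : Nontrivial (S : Subgroup G) := (Subgroup.nontrivial_iff_ne_bot _).2 hS1
  have hW1 : W' ≠ ⊥ := by
    obtain ⟨z, -, hz, hzo⟩ := CfsgLib.PGroupBasic.exists_central_orderOf_eq S.2
      (⊤ : Subgroup (S : Subgroup G)) top_ne_bot
    intro hbot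
    have hz' : (z : G) ∈ W' := hWlo (subset_closure ⟨⟨z, hz, rfl⟩, by
      have := pow_orderOf_eq_one z
      rw [hzo] at this
      exact congrArg Subtype.val this⟩)
    rw [hbot, mem_bot] at hz'
    rw [show z = 1 from Subtype.ext hz', orderOf_one] at hzo
    omega
  have hMne : M ≠ ⊤ := fun e => by
    rcases (normalizer_eq_top_iff.1 e).eq_bot_or_eq_top with h1 | h1
    · exact hW1 h1
    · haveI := S.2.isNilpotent
      have hsv : Group.IsSolvable (S : Subgroup G) := inferInstance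
      have htop : (S : Subgroup G) = ⊤ := top_le_iff.1 (h1 ▸ map_subtype_le _)
      rw [htop] at hsv
      exact hns (Group.isSolvable_of_surjective
        (f := (Subgroup.topEquiv : (⊤ : Subgroup G) ≃* G).toMonoidHom) Subgroup.topEquiv.surjective)
  have hSM : (S : Subgroup G) ≤ M := fun s hs => by
    have key : ∀ s ∈ (S : Subgroup G), ∀ w ∈ W', s * w * s⁻¹ ∈ W' := by
      rintro s hs _ ⟨w, hw, rfl⟩
      exact ⟨⟨s, hs⟩ * w * ⟨s, hs⟩⁻¹, (inferInstance : W.Normal).conj_mem w hw _, rfl⟩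
    exact mem_normalizer_iff.2 fun w => ⟨key s hs w, fun hw => by
      simpa [mul_assoc] using key s⁻¹ (inv_mem hs) _ hw⟩
  haveI : Group.IsSolvable M := hsolv M hMne
  -- the quotient of `M` by its odd core
  set O := Cfsg.pPrimeCore 2 M with hO
  haveI : O.Normal := Cfsg.pPrimeCore_normal 2 _
  set q := QuotientGroup.mk' O with hq
  set TM : Sylow 2 M := S.subtype hSM with hTM
  have hqinj : ∀ x ∈ (TM : Subgroup M), q x = 1 → x = 1 := fun x hx hqx =>
    CfsgLib.PLocal.eq_one_of_mem_pGroup_of_mem_coprime TM.2 CfsgLib.PCore.pPrimeCore_coprime hx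
      ((QuotientGroup.eq_one_iff x).1 hqx)
  set R := Cfsg.pCore 2 (↥M ⧸ O) with hR
  haveI hRn : R.Normal := Cfsg.pCore_normal 2 _
  have hRc : centralizer (R : Set (↥M ⧸ O)) ≤ R :=
    CfsgLib.InvChar.centralizer_pCore_le CfsgLib.PCore.pPrimeCore_quotient_pPrimeCore
  set T' := TM.mapSurjective (QuotientGroup.mk'_surjective O) with hT'
  have hT'c : (T' : Subgroup (↥M ⧸ O)) = (TM : Subgroup M).map q := Sylow.coe_mapSurjective _ TM
  have hRT : R ≤ (TM : Subgroup M).map q := hT'c ▸ CfsgLib.PCore.pCore_le_sylow T'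
  have hR1 : R ≠ ⊥ := by
    intro hbot
    obtain ⟨z, -, -, hzo⟩ := CfsgLib.PGroupBasic.exists_central_orderOf_eq S.2
      (⊤ : Subgroup (S : Subgroup G)) top_ne_bot
    have hc : q ⟨z, hSM z.2⟩ ∈ R := by
      apply hRc
      rw [hbot]
      simp [mem_centralizer_iff]
    rw [hbot, mem_bot] at hc
    have := congrArg Subtype.val (hqinj ⟨z, hSM z.2⟩ (show _ ∈ (TM : Subgroup M) from z.2) hc)
    rw [show z = 1 from Subtype.ext this, orderOf_one] at hzo
    omega
  let A : Subgroup (↥M ⧸ O) :=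
    { carrier := {a : ↥M ⧸ O | a ∈ R ⊓ centralizer (R : Set (↥M ⧸ O)) ∧ a * a = 1}
      one_mem' := ⟨one_mem _, one_mul 1⟩
      mul_mem' := fun {a b} ha hb => ⟨mul_mem ha.1 hb.1, by
        have hc : b * a = a * b := (mem_centralizer_iff.1 hb.1.2 a ha.1.1).symm
        rw [mul_assoc, ← mul_assoc b, hc, mul_assoc a b, hb.2, mul_one, ha.2]⟩
      inv_mem' := fun {a} ha => ⟨inv_mem ha.1, by rw [← mul_inv_rev, ha.2, inv_one]⟩ }
  haveI hAn : A.Normal := ⟨fun a ha g => ⟨(inferInstance : (R ⊓ centralizer (R : Set (↥M ⧸ O))).Normal).conj_mem a ha.1 g, by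
    rw [show g * a * g⁻¹ * (g * a * g⁻¹) = g * (a * a) * g⁻¹ by group, ha.2, mul_one, mul_inv_cancel]⟩⟩
  have hAR : A ≤ R := fun a ha => ha.1.1
  have hA1 : A ≠ ⊥ := by
    obtain ⟨z, -, hz, hzo⟩ := CfsgLib.PGroupBasic.exists_central_orderOf_eq
      (CfsgLib.PCore.pCore_isPGroup (p := 2) (G := ↥M ⧸ O)) (⊤ : Subgroup R)
      (haveI := (Subgroup.nontrivial_iff_ne_bot _).2 hR1; top_ne_bot)
    intro hbot
    have hzA : (z : ↥M ⧸ O) ∈ A := by
      refine ⟨⟨z.2, mem_centralizer_iff.2 fun r hr => ?_⟩, ?_⟩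
      · exact congrArg Subtype.val (mem_center_iff.1 hz ⟨r, hr⟩)
      · have := pow_orderOf_eq_one z
        rw [hzo, pow_two] at this
        exact congrArg Subtype.val this
    rw [hbot, mem_bot] at hzA
    rw [show z = 1 from Subtype.ext hzA, orderOf_one] at hzo
    omega
  set B := (A.comap q ⊓ (TM : Subgroup M)).map M.subtype with hBdef
  have hBS : B ≤ (S : Subgroup G) := by
    rintro _ ⟨x, hx, rfl⟩
    exact hx.2
  have hmemB : ∀ x : M, (x : G) ∈ B ↔ q x ∈ A ∧ x ∈ (TM : Subgroup M) := fun x =>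
    ⟨fun ⟨y, hy, hyx⟩ => Subtype.ext (hyx : (y : G) = x) ▸ hy, fun hx => ⟨x, hx, rfl⟩⟩
  have helem : Cfsg.IsElementaryAbelian 2 B := by
    have key : ∀ x y : M, x ∈ A.comap q ⊓ (TM : Subgroup M) → y ∈ A.comap q ⊓ (TM : Subgroup M) →
        x * y = y * x := by
      intro x y hx hy
      refine mul_inv_eq_one.1 (hqinj _ ?_ ?_)
      · exact mul_mem (mul_mem hx.2 hy.2) (inv_mem (mul_mem hy.2 hx.2))
      · rw [map_mul, map_inv, map_mul, map_mul,
          ← (mem_centralizer_iff.1 (show q y ∈ A from hy.1).1.2 (q x) (hAR hx.1)), mul_inv_cancel]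
    refine ⟨⟨⟨fun a b => Subtype.ext ?_⟩⟩, ?_⟩
    · obtain ⟨x, hx, hxa⟩ := a.2
      obtain ⟨y, hy, hyb⟩ := b.2
      show (a : G) * b = b * a
      rw [← hxa, ← hyb]
      exact congrArg Subtype.val (key x y hx hy)
    · rintro _ ⟨x, hx, rfl⟩
      rw [← map_pow, show x ^ 2 = 1 from hqinj _ (pow_mem hx.2 2) (by
        rw [map_pow, pow_two]; exact (show q x ∈ A from hx.1).2), map_one]
  have hBM : B ≤ M := hBS.trans hSM
  -- fusion into `S` lands in `B`
  have hctrl' : ∀ x ∈ (S : Subgroup G), ∀ g : G, g * x * g⁻¹ ∈ (S : Subgroup G) →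
      ∃ m ∈ M, g * x * g⁻¹ = m * x * m⁻¹ := by
    intro x hx g hg
    obtain ⟨m, hm, hme⟩ := (hctrl {x} (Set.singleton_subset_iff.2 hx)).2 g (by
      rintro _ ⟨_, rfl, rfl⟩; exact hg)
    exact ⟨m, hm, hme x rfl⟩
  have hclS : ∀ x ∈ B, ∀ g : G, g * x * g⁻¹ ∈ (S : Subgroup G) → g * x * g⁻¹ ∈ B := by
    intro x hx g hg
    obtain ⟨m, hm, hme⟩ := hctrl' x (hBS hx) g hg
    rw [hme] at hg ⊢
    have h3 := ((hmemB ⟨x, hBM hx⟩).1 hx).1
    refine (hmemB (⟨m, hm⟩ * ⟨x, hBM hx⟩ * ⟨m, hm⟩⁻¹)).2 ⟨?_, hg⟩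
    rw [map_mul, map_mul, map_inv]
    exact hAn.conj_mem _ h3 _
  have hclosed : ∀ T : Subgroup G, IsPGroup 2 T → B ≤ T → ∀ x ∈ B, ∀ g : G, g * x * g⁻¹ ∈ T →
      g * x * g⁻¹ ∈ B := by
    intro T hT hBT x hx g hg
    obtain ⟨k, hk⟩ := exists_conj_le_sylow hT S
    have hkn : B.map (MulAut.conj k).toMonoidHom = B :=
      eq_of_le_of_card_ge (by rintro _ ⟨y, hy, rfl⟩; exact hclS y hy k (hk y (hBT hy)))
        (card_map_of_injective (MulAut.conj k).injective).ge
    have h4 : k * (g * x * g⁻¹) * k⁻¹ ∈ B := by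
      have e : k * (g * x * g⁻¹) * k⁻¹ = (k * g) * x * (k * g)⁻¹ := by group
      rw [e]
      exact hclS x hx (k * g) (e ▸ hk _ hg)
    obtain ⟨y, hy, hye⟩ := hkn.symm ▸ h4
    have : y = g * x * g⁻¹ := (MulAut.conj k).injective hye
    exact this ▸ hy
  have hrank : 8 ≤ Nat.card B := by
    by_contra hlt
    have hB4 : Nat.card B ≤ 4 := by
      obtain ⟨n, hn⟩ := IsPGroup.iff_card.1 (elem_isPGroup helem)
      rw [hn] at hlt ⊢
      have : n < 3 := by
        by_contra hn3
        exact hlt (le_trans (by norm_num) (Nat.pow_le_pow_right two_pos (not_lt.1 hn3)))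
      interval_cases n <;> norm_num
    have hB1 : B ≠ ⊥ := by
      obtain ⟨a, ha, ha1⟩ : ∃ a ∈ A, a ≠ 1 := by
        by_contra hc
        push Not at hc
        exact hA1 ((A.eq_bot_iff_forall).2 hc)
      obtain ⟨x, hx, rfl⟩ := hRT (hAR ha)
      intro hbot
      have := (hmemB x).2 ⟨ha, hx⟩
      rw [hbot, mem_bot] at this
      exact ha1 (by rw [show x = 1 from Subtype.ext this, map_one])
    haveI : (B.subgroupOf (S : Subgroup G)).Normal := ⟨fun b hb s => mem_subgroupOf.2
      (hclS b (mem_subgroupOf.1 hb) s (s * b * s⁻¹).2)⟩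
    obtain ⟨z, hzB, hzc, hzo⟩ := CfsgLib.PGroupBasic.exists_central_orderOf_eq S.2
      (B.subgroupOf (S : Subgroup G)) (fun e => hB1 (by
        have := congrArg (Subgroup.map (S : Subgroup G).subtype) e
        rwa [subgroupOf_map_subtype, inf_of_le_left hBS, Subgroup.map_bot] at this))
    have hzB' : (z : G) ∈ B := mem_subgroupOf.1 hzB
    -- the normalizer of `B` centralizes `z`
    set X := normalizer (B : Set G)
    have hSX : (S : Subgroup G) ≤ X := fun s hs => mem_normalizer_iff.2 fun y => ⟨fun hy =>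
      hclS y hy s (mul_mem (mul_mem hs (hBS hy)) (inv_mem hs)), fun hy => by
      have := hclS _ hy s⁻¹ (mul_mem (mul_mem (inv_mem hs) (hBS hy)) (inv_mem (inv_mem hs)))
      simpa [mul_assoc] using this⟩
    have hXz : X ≤ centralizer ({(z : G)} : Set G) := by
      refine CfsgLib.Tech46.le_of_forall_sylow_le fun r hr => ?_
      haveI : Fact r.Prime := ⟨hr⟩
      by_cases hr2 : r = 2
      · subst hr2
        refine ⟨S, hSX, fun s hs => mem_centralizer_singleton_iff.2 ?_,
          fun hd => S.not_dvd_index (hd.trans (relIndex_dvd_index_of_le hSX))⟩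
        exact congrArg Subtype.val (mem_center_iff.1 hzc ⟨s, hs⟩)
      · obtain ⟨Q⟩ : Nonempty (Sylow r X) := inferInstance
        refine ⟨(Q : Subgroup X).map X.subtype, map_subtype_le _, ?_, ?_⟩
        · rintro _ ⟨y, hy, rfl⟩
          refine mem_centralizer_singleton_iff.2
            (h.normalizer_centralizes hp hp3 helem hB4 hzB' y.2 ?_)
          obtain ⟨k, hk⟩ := Q.2 ⟨y, hy⟩
          have hd : orderOf y ∣ r ^ k := orderOf_dvd_of_pow_eq_one (congrArg Subtype.val hk :)
          show Odd (orderOf (y : G))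
          rw [Subgroup.orderOf_coe]
          exact ((hr.odd_of_ne_two hr2).pow).of_dvd_nat hd
        · rw [relIndex, subgroupOf, comap_map_eq_self_of_injective X.subtype_injective]
          exact Q.not_dvd_index
    refine no_isolated hns h2 (isIsolated_of_sylow S (u := (z : G))
      (by rw [Subgroup.orderOf_coe]; exact hzo) fun g hg => ?_)
    obtain ⟨m, hm, hme⟩ := hctrl' _ z.2 g hg
    rw [hme] at hg ⊢
    obtain ⟨o, ho, n, hn, hmon⟩ := exists_core_mul_normalizer TM (V := B.subgroupOf M)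
      (fun y hy => hBS (mem_subgroupOf.1 hy))
      (fun a ha b hb => Subtype.ext (elem_comm helem (mem_subgroupOf.1 ha) (mem_subgroupOf.1 hb)))
      (fun x hx k hk => mem_subgroupOf.2 (hclS x (mem_subgroupOf.1 hx) k hk)) ⟨m, hm⟩
    set zM : M := ⟨z, hBM hzB'⟩
    have hnX : (n : G) ∈ X := mem_normalizer_iff.2 fun y => ⟨fun hy => by
      exact mem_subgroupOf.1 ((mem_normalizer_iff.1 hn ⟨y, hBM hy⟩).1 (mem_subgroupOf.2 hy)),
      fun hy => by
        have hyM : y ∈ M := by
          have := M.mul_mem (M.mul_mem (M.inv_mem n.2) (hBM hy)) n.2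
          simpa [mul_assoc] using this
        exact mem_subgroupOf.1 ((mem_normalizer_iff.1 hn ⟨y, hyM⟩).2 (mem_subgroupOf.2 hy))⟩
    have hnz : n * zM = zM * n := Subtype.ext (mem_centralizer_singleton_iff.1 (hXz hnX))
    have hqeq : q (⟨m, hm⟩ * zM * ⟨m, hm⟩⁻¹) = q zM := by
      rw [hmon, show o * n * zM * (o * n)⁻¹ = o * (n * zM * n⁻¹) * o⁻¹ by group, hnz,
        mul_inv_cancel_right, map_mul, map_mul, map_inv,
        show q o = 1 from (QuotientGroup.eq_one_iff o).2 ho, one_mul, inv_one, mul_one]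
    have hone := hqinj ((⟨m, hm⟩ * zM * ⟨m, hm⟩⁻¹) * zM⁻¹)
      (mul_mem (show _ ∈ (TM : Subgroup M) from hg) (inv_mem (show _ ∈ (TM : Subgroup M) from z.2)))
      (by rw [map_mul, hqeq, map_inv, mul_inv_cancel])
    exact congrArg Subtype.val (mul_inv_eq_one.1 hone)
  obtain ⟨N, hN⟩ := exists_setup hns hsolv ⟨helem, hrank, hclosed⟩ hMne hBM
    (fun b hb g hg => (hctrl' b (hBS hb) g (hBS hg)).imp fun m hm => ⟨hm.1, hm.2.symm⟩)
  exact ⟨B, N, hN⟩

end CfsgLib.MinSimple12
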