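import Mathlib
import Cfsg.Agent.Lib.MinSimple12.Setup
import Cfsg.Agent.Lib.Involutions.Basic
import Cfsg.Agent.Lib.Involutions.Fusion

/-!
In the setting, every involution is conjugate into `B` and fixes exactly one coset of `N`.
-/

set_option autoImplicit false
set_option linter.unusedSectionVars false
set_option linter.style.haveILetI false

namespace CfsgLib.MinSimple12

open Subgroup CfsgLib.Involutions

universe u

variable {G : Type u} [Group G] [Finite G]

theorem smul_coset_iff {N : Subgroup G} (x g : G) :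
    x • (g : G ⧸ N) = (g : G ⧸ N) ↔ g⁻¹ * x * g ∈ N := by
  rw [MulAction.Quotient.smul_coe, QuotientGroup.eq, smul_eq_mul]
  constructor
  · intro h
    have := N.inv_mem h
    simpa [mul_assoc] using this
  · intro h
    have := N.inv_mem h
    simpa [mul_assoc] using this

theorem smul_one_coset_iff {N : Subgroup G} (x : G) :
    x • ((1 : G) : G ⧸ N) = ((1 : G) : G ⧸ N) ↔ x ∈ N := by
  rw [smul_coset_iff, inv_one, one_mul, mul_one]

/-- A 2-subgroup normalized by a Sylow subgroup lies in it. -/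
theorem le_sylow_of_normalized {H : Type u} [Group H] [Finite H] (P : Sylow 2 H) {Q : Subgroup H}
    (hQ : IsPGroup 2 Q) (hn : (P : Subgroup H) ≤ normalizer (Q : Set H)) :
    Q ≤ (P : Subgroup H) := by
  have h : IsPGroup 2 ↥((P : Subgroup H) ⊔ Q) := IsPGroup.to_sup_of_normal_right' P.2 hQ hn
  exact (P.is_maximal' h le_sup_left) ▸ le_sup_right

/-- An involution of `B` type: conjugate to a nontrivial element of `B`. -/
def BType (B : Subgroup G) (t : G) : Prop := ∃ g : G, ∃ b ∈ B, b ≠ 1 ∧ t = g * b * g⁻¹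

variable {B N : Subgroup G}

theorem BType.orderOf_eq (h : Setup B N) {t : G} (ht : BType B t) : orderOf t = 2 := by
  obtain ⟨g, b, hb, hb1, rfl⟩ := ht
  rw [orderOf_conj_eq]
  exact elem_orderOf h.cl.elem hb hb1

theorem BType.conj {t : G} (ht : BType B t) (x : G) : BType B (x * t * x⁻¹) := by
  obtain ⟨g, b, hb, hb1, rfl⟩ := ht
  exact ⟨x * g, b, hb, hb1, by group⟩

namespace Setup

theorem exists_sylow (h : Setup B N) :
    ∃ T : Sylow 2 G, B ≤ (T : Subgroup G) ∧ (T : Subgroup G) ≤ N ∧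
      (T : Subgroup G) ≤ normalizer (B : Set G) := by
  haveI : Fact (Nat.Prime 2) := ⟨Nat.prime_two⟩
  obtain ⟨T, hT⟩ := (elem_isPGroup h.cl.elem).exists_le_sylow
  have hn : (T : Subgroup G) ≤ normalizer (B : Set G) := fun t ht => by
    have key : ∀ s ∈ (T : Subgroup G), ∀ x ∈ B, s * x * s⁻¹ ∈ B := fun s hs x hx =>
      h.cl.closed _ T.2 hT x hx s (mul_mem (mul_mem hs (hT hx)) (inv_mem hs))
    exact mem_normalizer_iff.2 fun x => ⟨key t ht x, fun hx => by
      simpa [mul_assoc] using key t⁻¹ (inv_mem ht) _ hx⟩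
  exact ⟨T, hT, hn.trans h.norm_le, hn⟩

theorem le_N (h : Setup B N) : B ≤ N := le_normalizer.trans h.norm_le

/-- A 2-subgroup of `N` is conjugate in `N` into the Sylow subgroup `T ≤ N`. -/
theorem exists_conj_in (_h : Setup B N) (T : Sylow 2 G) (hTN : (T : Subgroup G) ≤ N)
    {Q : Subgroup G} (hQ : IsPGroup 2 Q) (hQN : Q ≤ N) :
    ∃ n ∈ N, ∀ y ∈ Q, n * y * n⁻¹ ∈ (T : Subgroup G) := by
  haveI : Fact (Nat.Prime 2) := ⟨Nat.prime_two⟩
  obtain ⟨S, hS⟩ := (hQ.comap_of_injective N.subtype N.subtype_injective).exists_le_sylow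
  obtain ⟨m, hm⟩ := MulAction.exists_smul_eq N S (T.subtype hTN)
  refine ⟨m, m.2, fun y hy => ?_⟩
  have h1 : m * ⟨y, hQN hy⟩ * m⁻¹ ∈ ((T.subtype hTN : Sylow 2 N) : Subgroup N) := by
    rw [← SetLike.mem_coe, ← hm]
    exact ⟨⟨y, hQN hy⟩, hS (show (⟨y, hQN hy⟩ : N) ∈ Q.comap N.subtype from hy), rfl⟩
  exact h1

theorem mem_of_conj (h : Setup B N) {b : G} (hb : b ∈ B) (hb1 : b ≠ 1) {g : G}
    (hg : g * b * g⁻¹ ∈ N) : g ∈ N := by
  obtain ⟨T, hBT, hTN, -⟩ := h.exists_sylow
  have hp : IsPGroup 2 ↥(zpowers (g * b * g⁻¹)) :=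
    isPGroup_two_zpowers ((orderOf_conj_eq g b).trans (elem_orderOf h.cl.elem hb hb1))
  obtain ⟨n, hn, hnT⟩ := h.exists_conj_in T hTN hp (zpowers_le.2 hg)
  have h1 : n * g * b * (n * g)⁻¹ ∈ (T : Subgroup G) := by
    simpa [mul_assoc] using hnT _ (mem_zpowers _)
  obtain ⟨k, hk, hkb⟩ := h.fus b hb (n * g) (h.cl.closed _ T.2 hBT b hb _ h1)
  have hc : k⁻¹ * (n * g) ∈ centralizer ({b} : Set G) := by
    rw [mem_centralizer_singleton_iff]
    calc k⁻¹ * (n * g) * b = k⁻¹ * (n * g * b * (n * g)⁻¹) * (n * g) := by group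
      _ = b * (k⁻¹ * (n * g)) := by rw [← hkb]; group
  have h2 := h.cent_le b hb hb1 hc
  have : g = n⁻¹ * (k * (k⁻¹ * (n * g))) := by group
  rw [this]
  exact mul_mem (inv_mem hn) (mul_mem hk h2)

theorem fix_unique (h : Setup B N) {t : G} (ht : BType B t) {α β : G ⧸ N} (hα : t • α = α)
    (hβ : t • β = β) : α = β := by
  obtain ⟨g, b, hb, hb1, rfl⟩ := ht
  suffices key : ∀ γ : G ⧸ N, (g * b * g⁻¹) • γ = γ → γ = (g : G ⧸ N) from
    (key α hα).trans (key β hβ).symm
  intro γ hγ
  induction γ using QuotientGroup.induction_on with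
  | _ x =>
    rw [smul_coset_iff] at hγ
    have h1 := h.mem_of_conj hb hb1 (g := x⁻¹ * g) (by simpa [mul_assoc] using hγ)
    rw [QuotientGroup.eq]
    exact h1

theorem exists_fix (h : Setup B N) {t : G} (ht : BType B t) : ∃ α : G ⧸ N, t • α = α := by
  obtain ⟨g, b, hb, -, rfl⟩ := ht
  exact ⟨(g : G ⧸ N), (smul_coset_iff _ _).2 (by simpa [mul_assoc] using h.le_N hb)⟩

theorem smul_fix_of_commute (h : Setup B N) {t x : G} (ht : BType B t) (hc : Commute x t)
    {α : G ⧸ N} (hα : t • α = α) : x • α = α :=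
  h.fix_unique ht (by rw [smul_smul, ← hc.eq, ← smul_smul, hα]) hα

/-- Two commuting involutions of `B` type in `N` have a product of `B` type. -/
theorem btype_mul (h : Setup B N) {s t : G} (hs : BType B s) (ht : BType B t) (hst : Commute s t)
    (hne : s ≠ t) (hsN : s ∈ N) (htN : t ∈ N) : BType B (s * t) := by
  obtain ⟨T, hBT, hTN, -⟩ := h.exists_sylow
  have hord : orderOf (s * t) = 2 ^ 1 := by
    rw [pow_one, orderOf_eq_two_iff_mul]
    refine ⟨fun e => hne ?_, ?_⟩
    · rw [eq_inv_of_mul_eq_one_left e, inv_eq_self_of_involution (ht.orderOf_eq h)]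
    · rw [hst.symm.mul_mul_mul_comm, mul_self_eq_one (hs.orderOf_eq h),
        mul_self_eq_one (ht.orderOf_eq h), one_mul]
  obtain ⟨n, -, hnT⟩ := h.exists_conj_in T hTN
    (isPGroup_two_closure_pair (hs.orderOf_eq h) (ht.orderOf_eq h) hord)
    ((closure_le N).2 (Set.insert_subset hsN (Set.singleton_subset_iff.2 htN)))
  have key : ∀ x : G, BType B x → n * x * n⁻¹ ∈ (T : Subgroup G) → n * x * n⁻¹ ∈ B := by
    intro x hx hxT
    obtain ⟨g, b, hb, -, rfl⟩ := hx
    have e : n * (g * b * g⁻¹) * n⁻¹ = (n * g) * b * (n * g)⁻¹ := by group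
    rw [e] at hxT ⊢
    exact h.cl.closed _ T.2 hBT b hb _ hxT
  have h1 := B.mul_mem (key s hs (hnT s (subset_closure (by simp))))
    (key t ht (hnT t (subset_closure (by simp))))
  refine ⟨n⁻¹, n * (s * t) * n⁻¹, ?_, ?_, by group⟩
  · simpa [mul_assoc] using h1
  · intro e
    rw [conj_eq_one_iff] at e
    rw [e, orderOf_one] at hord
    norm_num at hord

/-- A proper subgroup meeting `B` in a noncyclic subgroup lies in `N`. -/
theorem proper_le (h : Setup B N) {X V : Subgroup G} (hX : X ≠ ⊤) (hVB : V ≤ B) (hVX : V ≤ X)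
    (h4 : 2 < Nat.card V) : X ≤ N := by
  haveI : Fact (Nat.Prime 2) := ⟨Nat.prime_two⟩
  haveI := h.solv X hX
  obtain ⟨T, hBT, hTN, hTB⟩ := h.exists_sylow
  have hVp : IsPGroup 2 V := (elem_isPGroup h.cl.elem).to_le hVB
  obtain ⟨TX, hTX⟩ := (hVp.comap_of_injective X.subtype X.subtype_injective).exists_le_sylow
  have hVTX : V ≤ (TX : Subgroup X).map X.subtype := fun v hv => ⟨⟨v, hVX hv⟩, hTX hv, rfl⟩
  obtain ⟨g, hg⟩ := exists_conj_le_sylow (TX.2.map X.subtype) T
  -- `g` moves `V` into `B`, so it lies in `N`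
  have hVne : ∃ v ∈ V, v ≠ 1 := by
    by_contra hc
    push Not at hc
    rw [(V.eq_bot_iff_forall).2 hc, card_bot] at h4
    omega
  obtain ⟨v, hv, hv1⟩ := hVne
  have hgN : g ∈ N := h.mem_of_conj (hVB hv) hv1
    (h.le_N (h.cl.closed _ T.2 hBT v (hVB hv) g (hg v (hVTX hv))))
  set V' : Subgroup G := X ⊓ B.comap (MulAut.conj g).toMonoidHom with hV'
  have hmemV : ∀ y, y ∈ V' ↔ y ∈ X ∧ g * y * g⁻¹ ∈ B := fun y => Iff.rfl
  have hVV' : V ≤ V' := fun y hy =>
    (hmemV y).2 ⟨hVX hy, h.cl.closed _ T.2 hBT y (hVB hy) g (hg y (hVTX hy))⟩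
  have hV'e : Cfsg.IsElementaryAbelian 2 V' := by
    refine ⟨⟨⟨fun a b => Subtype.ext ?_⟩⟩, fun a ha => ?_⟩
    · apply (MulAut.conj g).injective
      show MulAut.conj g ((a : G) * b) = MulAut.conj g ((b : G) * a)
      rw [map_mul, map_mul]
      exact elem_comm h.cl.elem ((hmemV a).1 a.2).2 ((hmemV b).1 b.2).2
    · apply (MulAut.conj g).injective
      rw [map_pow, map_one]
      exact h.cl.elem.2 _ ((hmemV a).1 ha).2
  have hV'T : V' ≤ (TX : Subgroup X).map X.subtype := by
    have h1 : V'.subgroupOf X ≤ (TX : Subgroup X) := by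
      refine le_sylow_of_normalized TX
        ((elem_isPGroup hV'e).comap_of_injective X.subtype X.subtype_injective) fun t ht => ?_
      have key : ∀ s ∈ (TX : Subgroup X), ∀ y : X, y ∈ V'.subgroupOf X →
          s * y * s⁻¹ ∈ V'.subgroupOf X := by
        intro s hs y hy
        refine mem_subgroupOf.2 ((hmemV _).2 ⟨(s * y * s⁻¹).2, ?_⟩)
        have h2 := (mem_normalizer_iff.1 (hTB (hg (s : G) ⟨s, hs, rfl⟩)) _).1
          ((hmemV _).1 (mem_subgroupOf.1 hy)).2
        simpa [mul_assoc] using h2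
      exact mem_normalizer_iff.2 fun y => ⟨key t ht y, fun hy => by
        simpa [mul_assoc] using key t⁻¹ (inv_mem ht) _ hy⟩
    intro y hy
    exact ⟨⟨y, ((hmemV y).1 hy).1⟩, h1 (mem_subgroupOf.2 hy), rfl⟩
  refine sub_le TX hV'e (h4.trans_le (card_le_of_le hVV')) hV'T ?_ ?_ ?_
  · intro x hx k hk hkT
    refine (hmemV _).2 ⟨X.mul_mem (X.mul_mem hk ((hmemV x).1 hx).1) (X.inv_mem hk), ?_⟩
    have e : g * (k * x * k⁻¹) * g⁻¹ = g * k * g⁻¹ * (g * x * g⁻¹) * (g * k * g⁻¹)⁻¹ := by group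
    rw [e]
    exact h.cl.closed _ T.2 hBT _ ((hmemV x).1 hx).2 (g * k * g⁻¹) (e ▸ hg _ hkT)
  · intro w hw hw1 x hx
    have h1 : g * x * g⁻¹ ∈ centralizer ({g * w * g⁻¹} : Set G) := by
      rw [mem_centralizer_singleton_iff]
      calc g * x * g⁻¹ * (g * w * g⁻¹) = g * (x * w) * g⁻¹ := by group
        _ = _ := by rw [mem_centralizer_singleton_iff.1 hx]; group
    have h2 := h.cent_le _ ((hmemV w).1 hw).2 (fun e => hw1 (conj_eq_one_iff.1 e)) h1
    have := mul_mem (mul_mem (inv_mem hgN) h2) hgN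
    simpa [mul_assoc] using this
  · intro x _ hxn
    have h1 := ((hmemV _).1 ((mem_normalizer_iff.1 hxn v).1 (hVV' hv))).2
    have h2 := h.mem_of_conj (hVB hv) hv1 (g := g * x)
      (by simpa [mul_assoc] using h.le_N h1)
    have := mul_mem (inv_mem hgN) h2
    simpa [mul_assoc] using this

/-- An involution centralizes a noncyclic subgroup of an invariant copy of `B`. -/
theorem two_lt_card_fixed (h : Setup B N) {u : G} (hu : orderOf u = 2)
    (hn : u ∈ normalizer (B : Set G)) :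
    2 < Nat.card ↥(B ⊓ centralizer ({u} : Set G)) := by
  haveI := h.cl.elem.1
  set C := B ⊓ centralizer ({u} : Set G)
  let f : B →* G :=
    MonoidHom.mk' (fun b => (b : G) * (u * b * u⁻¹)) fun a b => by
      have hc := elem_comm h.cl.elem ((mem_normalizer_iff.1 hn _).1 a.2) b.2
      push_cast
      calc (a : G) * b * (u * ((a : G) * b) * u⁻¹) = a * (b * (u * a * u⁻¹)) * (u * b * u⁻¹) := by group
        _ = _ := by rw [← hc]; group
  have hker : f.ker ≤ C.subgroupOf B := by
    intro b hb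
    rw [MonoidHom.mem_ker] at hb
    refine mem_subgroupOf.2 ⟨b.2, mem_centralizer_singleton_iff.2 ?_⟩
    have h1 : u * (b : G) * u⁻¹ = b := by
      have h1 : u * (b : G) * u⁻¹ = (b : G)⁻¹ := eq_inv_of_mul_eq_one_right hb
      rw [h1]
      exact inv_eq_of_mul_eq_one_right (by rw [← pow_two]; exact h.cl.elem.2 _ b.2)
    exact (mul_inv_eq_iff_eq_mul.1 h1).symm
  have hrange : f.range ≤ C := by
    rintro _ ⟨b, rfl⟩
    have hbu := (mem_normalizer_iff.1 hn _).1 b.2
    refine ⟨B.mul_mem b.2 hbu, mem_centralizer_singleton_iff.2 ?_⟩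
    have hc := elem_comm h.cl.elem b.2 hbu
    show (b : G) * (u * b * u⁻¹) * u = u * ((b : G) * (u * b * u⁻¹))
    rw [inv_eq_self_of_involution hu]
    calc (b : G) * (u * b * u) * u = (b : G) * u * b * (u * u) := by group
      _ = (b : G) * u * b := by rw [mul_self_eq_one hu, mul_one]
      _ = u * ((b : G) * (u * b * u)) := by
        rw [inv_eq_self_of_involution hu] at hc
        rw [hc, show u * (u * (b : G) * u * b) = (u * u) * b * u * b by group,
          mul_self_eq_one hu, one_mul]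
  have h1 := f.ker.card_mul_index
  rw [Subgroup.index_ker] at h1
  have h2 : Nat.card f.ker ≤ Nat.card C :=
    (card_le_of_le hker).trans (Nat.card_congr (subgroupOfEquivOfLe inf_le_left).toEquiv).le
  have h3 := card_le_of_le hrange
  have h4 := h.cl.rank
  by_contra hlt
  have : Nat.card C ≤ 2 := by omega
  nlinarith

/-- An involution not of `B` type fixes the point of every involution of `B` type. -/
theorem mem_of_not_btype (h : Setup B N) {i t : G} (hi : orderOf i = 2) (hib : ¬ BType B i)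
    (ht : BType B t) (htN : t ∈ N) : i ∈ N := by
  have ht2 := ht.orderOf_eq h
  have heven : Even (orderOf (i * t)) := even_order_of_not_isConj hi ht2 fun hc => hib (by
    obtain ⟨c, hc⟩ := isConj_iff.1 hc
    have : i = c⁻¹ * t * c⁻¹⁻¹ := by rw [← hc]; group
    exact this ▸ ht.conj c⁻¹)
  obtain ⟨hu, hui, hut⟩ := central_involution hi ht2 heven
  set a := i * t with ha
  set m := orderOf a / 2
  set u := a ^ m with hu'
  have hb1 : ((1 : G) : G ⧸ N) = ((1 : G) : G ⧸ N) := rfl
  have htα : t • ((1 : G) : G ⧸ N) = ((1 : G) : G ⧸ N) := (smul_one_coset_iff t).2 htN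
  have huN : u ∈ N := (smul_one_coset_iff u).1 (h.smul_fix_of_commute ht hut htα)
  have hconj : ∀ l : ℕ, (a ^ l)⁻¹ * t * a ^ l = i * a ^ (2 * l + 1) := by
    intro l
    have h1 : t = i * a := by rw [ha, ← mul_assoc, mul_self_eq_one hi, one_mul]
    have h2 : (a ^ l)⁻¹ * i = i * a ^ l := by
      rw [← inverts_pow (left_inverts_prod hi ht2) l, inv_eq_self_of_involution hi,
        mul_assoc, mul_self_eq_one hi, mul_one]
    rw [h1, ← mul_assoc, h2, two_mul, pow_add, pow_add, pow_one]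
    have h3 : a * a ^ l = a ^ l * a := (Commute.self_pow a l).eq
    simp only [mul_assoc]
    rw [h3]
  rcases Nat.even_or_odd m with ⟨l, hl⟩ | ⟨l, hl⟩
  · have htu : BType B (t * u) := by
      have h1 := hconj l
      rw [two_mul, ← hl, pow_succ', ← hu', ← mul_assoc, show i * a = t by
        rw [ha, ← mul_assoc, mul_self_eq_one hi, one_mul]] at h1
      rw [← h1]
      simpa using ht.conj (a ^ l)⁻¹
    have hcm : Commute t (t * u) := (Commute.refl t).mul_right hut.symm
    have htuN : t * u ∈ N := N.mul_mem htN huN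
    have hub : BType B u := by
      have h2 := h.btype_mul ht htu hcm (fun e => ne_one_of_involution hu (by simpa using e.symm))
        htN htuN
      rwa [← mul_assoc, mul_self_eq_one ht2, one_mul] at h2
    exact (smul_one_coset_iff i).1
      (h.smul_fix_of_commute hub hui.symm ((smul_one_coset_iff u).2 huN))
  · have hwb : BType B (i * u) := by
      rw [hu', hl, ← hconj l]
      simpa using ht.conj (a ^ l)⁻¹
    have hwu : Commute (i * u) u := hui.symm.mul_left (Commute.refl u)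
    obtain ⟨T, hBT, hTN, hTB⟩ := h.exists_sylow
    obtain ⟨n, hn, hnT⟩ := h.exists_conj_in T hTN (isPGroup_two_zpowers hu) (zpowers_le.2 huN)
    have hu'' : orderOf (n * u * n⁻¹) = 2 := (orderOf_conj_eq n u).trans hu
    have h4 := h.two_lt_card_fixed hu'' (hTB (hnT u (mem_zpowers u)))
    have hXN : centralizer ({n * u * n⁻¹} : Set G) ≤ N :=
      h.proper_le (haveI := h.simple; centralizer_ne_top h.nsolv (ne_one_of_involution hu''))
        inf_le_left inf_le_right h4
    have h5 : n * (i * u) * n⁻¹ ∈ centralizer ({n * u * n⁻¹} : Set G) :=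
      mem_centralizer_singleton_iff.2 (hwu.map (MulAut.conj n).toMonoidHom).eq
    have h6 := mul_mem (mul_mem (inv_mem hn) (hXN h5)) hn
    have hwN : i * u ∈ N := by simpa [mul_assoc] using h6
    have := N.mul_mem hwN (N.inv_mem huN)
    simpa using this

/-- All involutions are of `B` type. -/
theorem all_btype (h : Setup B N) {i : G} (hi : orderOf i = 2) : BType B i := by
  by_contra hib
  obtain ⟨b, hb, hb1⟩ : ∃ b ∈ B, b ≠ 1 := by
    by_contra hc
    push Not at hc
    have := h.cl.rank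
    rw [(B.eq_bot_iff_forall).2 hc, card_bot] at this
    omega
  have hbt : BType B b := ⟨1, b, hb, hb1, by simp⟩
  have key : ∀ g : G, g⁻¹ * i * g ∈ N := fun g => by
    refine h.mem_of_not_btype ?_ ?_ hbt (h.le_N hb)
    · simpa using (orderOf_conj_eq g⁻¹ i).trans hi
    · intro hc
      have := hc.conj g
      rw [show g * (g⁻¹ * i * g) * g⁻¹ = i by group] at this
      exact hib this
  haveI := h.simple
  have hmem : i ∈ N.normalCore := fun g => by simpa [mul_assoc] using key g⁻¹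
  rcases (inferInstance : N.normalCore.Normal).eq_bot_or_eq_top with h1 | h1
  · exact ne_one_of_involution hi (mem_bot.1 (h1 ▸ hmem))
  · exact h.ne_top (top_le_iff.1 (h1 ▸ N.normalCore_le))

theorem cent_fix (h : Setup B N) {s x : G} (hs : orderOf s = 2) (hc : Commute x s) {α : G ⧸ N}
    (hα : s • α = α) : x • α = α := h.smul_fix_of_commute (h.all_btype hs) hc hα

theorem inv_fix (h : Setup B N) {s : G} (hs : orderOf s = 2) :
    ∃! α : G ⧸ N, s • α = α := by
  obtain ⟨α, hα⟩ := h.exists_fix (h.all_btype hs)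
  exact ⟨α, hα, fun β hβ => h.fix_unique (h.all_btype hs) hβ hα⟩

/-- An involution swapping two prescribed points. -/
theorem exists_swap (h : Setup B N) {α β : G ⧸ N} (hne : α ≠ β) :
    ∃ w : G, orderOf w = 2 ∧ w • α = β ∧ w • β = α := by
  obtain ⟨b, hb, hb1⟩ : ∃ b ∈ B, b ≠ 1 := by
    by_contra hc
    push Not at hc
    have := h.cl.rank
    rw [(B.eq_bot_iff_forall).2 hc, card_bot] at this
    omega
  have hb2 := elem_orderOf h.cl.elem hb hb1
  have key : ∀ γ : G ⧸ N, ∃ s : G, orderOf s = 2 ∧ s • γ = γ := by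
    intro γ
    induction γ using QuotientGroup.induction_on with
    | _ g => exact ⟨g * b * g⁻¹, (orderOf_conj_eq g b).trans hb2,
        (smul_coset_iff _ _).2 (by simpa [mul_assoc] using h.le_N hb)⟩
  obtain ⟨x, hx, hxα⟩ := key α
  obtain ⟨y, hy, hyβ⟩ := key β
  rcases Nat.even_or_odd (orderOf (x * y)) with he | ho
  · obtain ⟨hz, hzx, hzy⟩ := central_involution hx hy he
    exfalso
    refine hne ?_
    have h1 := h.cent_fix hx hzx hxα
    have h2 := h.cent_fix hy hzy hyβ
    exact (h.inv_fix hz).unique h1 h2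
  · obtain ⟨m, hm⟩ := ho
    set a := x * y
    have hpow : a ^ (2 * m + 1) = 1 := hm ▸ pow_orderOf_eq_one a
    have hinv := inverts_pow (left_inverts_prod hx hy) m
    have hax : a ^ m * x = x * (a ^ m)⁻¹ := by
      rw [← hinv, ← mul_assoc, ← mul_assoc, mul_self_eq_one hx, one_mul,
        inv_eq_self_of_involution hx]
    -- `w = a ^ m * x` conjugates `x` to `y`
    obtain ⟨w, hw⟩ : ∃ w, w = a ^ m * x := ⟨_, rfl⟩
    have hw2 : orderOf w = 2 := by
      rw [orderOf_eq_two_iff_mul]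
      refine ⟨fun e => left_not_mem_zpowers_prod hx hy ?_, ?_⟩
      · exact ((zpowers a).mul_mem_cancel_left (pow_mem (mem_zpowers a) m)).1
          (by rw [← hw, e]; exact one_mem _)
      · subst hw
        calc a ^ m * x * (a ^ m * x) = a ^ m * x * (x * (a ^ m)⁻¹) := by rw [hax]
          _ = a ^ m * (x * x) * (a ^ m)⁻¹ := by group
          _ = 1 := by rw [mul_self_eq_one hx, mul_one, mul_inv_cancel]
    have hwx : w * x * w⁻¹ = y := by
      rw [hw, mul_inv_rev, show a ^ m * x * x * (x⁻¹ * (a ^ m)⁻¹) = a ^ m * x * (a ^ m)⁻¹ by group,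
        mul_assoc, ← hax, ← mul_assoc, ← pow_add, ← two_mul]
      have h1 : a ^ (2 * m) = a⁻¹ := eq_inv_of_mul_eq_one_left (by rw [← pow_succ, hpow])
      rw [h1, show a⁻¹ = y⁻¹ * x⁻¹ from mul_inv_rev x y, inv_mul_cancel_right,
        inv_eq_self_of_involution hy]
    have hwαβ : w • α = β := (h.inv_fix hy).unique (by
      calc y • w • α = (w * x * w⁻¹) • w • α := by rw [hwx]
        _ = w • x • α := by rw [smul_smul, inv_mul_cancel_right, ← smul_smul]
        _ = w • α := by rw [hxα]) hyβ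
    exact ⟨w, hw2, hwαβ, by rw [← hwαβ, smul_smul, mul_self_eq_one hw2, one_smul]⟩

end Setup

end CfsgLib.MinSimple12
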