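import Mathlib
import Cfsg.Agent.Lib.MinSimple12.Points
import Cfsg.Agent.Lib.MinSimple12.PNilp
import Cfsg.Agent.Lib.Hall.Solvable
import Cfsg.Agent.Lib.Tech46.CoprimeGen

/-!
Two-point stabilizers in the setting, when all subgroups of order prime to `p` are nilpotent.
-/

set_option autoImplicit false
set_option linter.unusedSectionVars false
set_option linter.style.haveILetI false

namespace CfsgLib.MinSimple12

open Subgroup CfsgLib.Involutions MulAction

universe u

variable {G : Type u} [Group G] [Finite G] {B N : Subgroup G} {p : ℕ}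

/-- The stabilizer of two points. -/
abbrev pairStab (α β : G ⧸ N) : Subgroup G := stabilizer G α ⊓ stabilizer G β

theorem mem_pairStab {α β : G ⧸ N} {x : G} :
    x ∈ pairStab α β ↔ x • α = α ∧ x • β = β := Iff.rfl

/-- The base point. -/
abbrev base (N : Subgroup G) : G ⧸ N := ((1 : G) : G ⧸ N)

theorem smul_conj_coset {N : Subgroup G} (g x : G) (γ : G ⧸ N) :
    (g * x * g⁻¹) • g • γ = g • x • γ := by
  rw [smul_smul, inv_mul_cancel_right, ← smul_smul]

namespace Setup

theorem exists_ne_one (h : Setup B N) : ∃ b ∈ B, b ≠ 1 := by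
  by_contra hc
  push Not at hc
  have := h.cl.rank
  rw [(B.eq_bot_iff_forall).2 hc, card_bot] at this
  omega

theorem self_normalizing (h : Setup B N) {g : G} (hg : ∀ x ∈ N, g * x * g⁻¹ ∈ N) : g ∈ N := by
  obtain ⟨b, hb, hb1⟩ := h.exists_ne_one
  exact h.mem_of_conj hb hb1 (hg b (h.le_N hb))

theorem cent_le_of_commutes (h : Setup B N) {x : G} (hx : x ≠ 1)
    (hc : ∀ b ∈ B, Commute x b) : centralizer ({x} : Set G) ≤ N := by
  haveI := h.simple
  haveI := h.solv _ (centralizer_ne_top h.nsolv hx)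
  exact overgroup_le h.cl h.cent_le h.norm_le
    (fun b hb => mem_centralizer_singleton_iff.2 (hc b hb).symm.eq)

/-- Every element of odd order prime to `p` in `N` centralizes a conjugate of `B` in `N`. -/
theorem exists_conj_commutes (h : Setup B N) (hn : PNil p G) (hp : p.Prime) (hp2 : p ≠ 2)
    {x : G} (hxN : x ∈ N) (hodd : Odd (orderOf x)) (hcop : (orderOf x).Coprime p) :
    ∃ n ∈ N, ∀ b ∈ B, Commute x (n * b * n⁻¹) := by
  haveI := h.solv N h.ne_top
  set c := Nat.card N with hc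
  have hc0 : c ≠ 0 := Nat.card_pos.ne'
  set k := p ^ c.factorization p
  set m := c / k
  have hG : Nat.card N = m * k := by
    rw [mul_comm]; exact (Nat.ordProj_mul_ordCompl_eq_self c p).symm
  have hmk : m.Coprime k := Nat.Coprime.pow_right _ (Nat.coprime_ordCompl hp hc0).symm
  have h1 : (Nat.card (zpowers (⟨x, hxN⟩ : N))).Coprime k := by
    rw [Nat.card_zpowers, Subgroup.orderOf_mk]
    exact Nat.Coprime.pow_right _ hcop
  obtain ⟨H, hH, hxH⟩ := CfsgLib.Hall.exists_ge_card hG hmk h1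
  have h2 : (Nat.card (B.subgroupOf N)).Coprime k := by
    rw [Nat.card_congr (subgroupOfEquivOfLe h.le_N).toEquiv]
    obtain ⟨j, hj⟩ := IsPGroup.iff_card.1 (elem_isPGroup h.cl.elem)
    rw [hj]
    exact (((Nat.coprime_primes Nat.prime_two hp).2 hp2.symm).pow_left j).pow_right _
  obtain ⟨H₂, hH₂, hBH₂⟩ := CfsgLib.Hall.exists_ge_card hG hmk h2
  obtain ⟨g, hg⟩ := CfsgLib.Hall.conj_of_card hG hmk hH₂ hH
  have hHnil : Group.IsNilpotent (H.map N.subtype) := hn _ (by
    rw [card_map_of_injective N.subtype_injective, hH]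
    exact (Nat.coprime_ordCompl hp hc0).symm)
  refine ⟨g, g.2, fun b hb => ?_⟩
  have hbH : (g : G) * b * (g : G)⁻¹ ∈ H.map N.subtype := by
    refine ⟨g * ⟨b, h.le_N hb⟩ * g⁻¹, ?_, rfl⟩
    rw [SetLike.mem_coe, ← hg]
    exact ⟨⟨b, h.le_N hb⟩, hBH₂ (mem_subgroupOf.2 hb), rfl⟩
  have hxH' : zpowers x ≤ H.map N.subtype := zpowers_le.2 ⟨⟨x, hxN⟩, hxH (mem_zpowers _), rfl⟩
  have hle : zpowers x ≤ centralizer ({(g : G) * b * (g : G)⁻¹} : Set G) := by
    refine CfsgLib.Tech46.le_of_forall_sylow_le fun q hq => ?_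
    haveI : Fact q.Prime := ⟨hq⟩
    obtain ⟨Q⟩ : Nonempty (Sylow q (zpowers x)) := inferInstance
    refine ⟨(Q : Subgroup (zpowers x)).map (zpowers x).subtype, map_subtype_le _, ?_, ?_⟩
    · rintro _ ⟨y, hy, rfl⟩
      refine mem_centralizer_singleton_iff.2 ?_
      obtain ⟨i, hi⟩ := Q.2 ⟨y, hy⟩
      have hi' : (y : G) ^ q ^ i = 1 := congrArg Subtype.val (congrArg Subtype.val hi)
      by_cases hq2 : q = 2
      · have hd1 : orderOf (y : G) ∣ 2 ^ i := orderOf_dvd_of_pow_eq_one (hq2 ▸ hi')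
        have hd2 : orderOf (y : G) ∣ orderOf x := by
          obtain ⟨z, hz⟩ := mem_zpowers_iff.1 y.2
          rw [← hz]
          exact orderOf_dvd_of_mem_zpowers (zpow_mem (mem_zpowers x) z)
        have h3 : orderOf (y : G) = 1 := Nat.eq_one_of_dvd_coprimes
          ((Nat.coprime_two_left.2 hodd).pow_left i) hd1 hd2
        show (y : G) * _ = _ * (y : G)
        rw [orderOf_eq_one_iff.1 h3, one_mul, mul_one]
      · refine (CfsgLib.Solvable.EigenChain.commute_of_coprime hHnil (hxH' y.2) hbH hq Nat.prime_two hq2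
          ⟨i, hi'⟩ ⟨1, ?_⟩).eq
        rw [pow_one, conj_pow, h.cl.elem.2 b hb]
        simp
    · rw [relIndex, subgroupOf, comap_map_eq_self_of_injective (zpowers x).subtype_injective]
      exact Q.not_dvd_index
  exact (mem_centralizer_singleton_iff.1 (hle (mem_zpowers x)) :)

/-- A nontrivial element of order prime to `p` fixes at most one point. -/
theorem eq_of_fix (h : Setup B N) (hn : PNil p G) (hp : p.Prime) (hp2 : p ≠ 2) {x : G} (hx : x ≠ 1)
    (hcop : (orderOf x).Coprime p) {α β : G ⧸ N} (hα : x • α = α) (hβ : x • β = β) : α = β := by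
  rcases Nat.even_or_odd (orderOf x) with he | ho
  · have hfix : ∀ γ : G ⧸ N, x • γ = γ → (x ^ (orderOf x / 2)) • γ = γ := fun γ hγ =>
      (pow_mem (mem_stabilizer_iff.2 hγ : x ∈ stabilizer G γ) _)
    exact (h.inv_fix (orderOf_pow_half he)).unique (hfix α hα) (hfix β hβ)
  · induction α using QuotientGroup.induction_on with
    | _ a =>
      induction β using QuotientGroup.induction_on with
      | _ b =>
        rw [smul_coset_iff] at hα hβ
        have hord : ∀ g : G, orderOf (g⁻¹ * x * g) = orderOf x := fun g => by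
          simpa using orderOf_conj_eq g⁻¹ x
        obtain ⟨n, hnN, hnc⟩ := h.exists_conj_commutes hn hp hp2 hα (by rwa [hord]) (by rwa [hord])
        obtain ⟨m, hmN, hmc⟩ := h.exists_conj_commutes hn hp hp2 hβ (by rwa [hord]) (by rwa [hord])
        -- move everything by `a * n`
        set g := a * n with hg
        have hle := h.cent_le_of_commutes (x := g⁻¹ * x * g) (fun e => hx (by
          have := orderOf_eq_one_iff.2 e
          rwa [hord, orderOf_eq_one_iff] at this)) fun c hc => by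
            have := (hnc c hc).map (MulAut.conj n⁻¹).toMonoidHom
            simpa [hg, mul_assoc] using this
        obtain ⟨c, hc, hc1⟩ := h.exists_ne_one
        have hk : g⁻¹ * b * m * c * (g⁻¹ * b * m)⁻¹ ∈ N := by
          refine hle (mem_centralizer_singleton_iff.2 (Commute.eq ?_))
          have := ((hmc c hc).map (MulAut.conj (g⁻¹ * b)).toMonoidHom).symm
          simpa [mul_assoc] using this
        have h1 := h.mem_of_conj hc hc1 hk
        rw [QuotientGroup.eq]
        have := mul_mem (mul_mem hnN h1) (inv_mem hmN)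
        simpa [hg, mul_assoc] using this

theorem isPGroup_pairStab (h : Setup B N) (hn : PNil p G) (hp : p.Prime) (hp2 : p ≠ 2)
    {α β : G ⧸ N} (hne : α ≠ β) : IsPGroup p (pairStab α β) := by
  intro x
  obtain ⟨e, m, hm, hord⟩ :=
    Nat.exists_eq_pow_mul_and_not_dvd (orderOf_pos (x : G)).ne' p hp.one_lt.ne'
  refine ⟨e, Subtype.ext ?_⟩
  by_contra hx
  have hxp := pow_mem x.2 (p ^ e)
  refine hne (h.eq_of_fix hn hp hp2 (x := (x : G) ^ p ^ e) hx ?_ hxp.1 hxp.2)
  refine Nat.Coprime.coprime_dvd_left (orderOf_dvd_of_pow_eq_one (n := m) ?_)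
    (hp.coprime_iff_not_dvd.2 hm).symm
  rw [← pow_mul, ← hord, pow_orderOf_eq_one]

theorem card_pairStab_smul (g : G) (α β : G ⧸ N) :
    Nat.card (pairStab (g • α) (g • β)) = Nat.card (pairStab α β) := by
  have : pairStab (g • α) (g • β) = (pairStab α β).map (MulAut.conj g).toMonoidHom := by
    show stabilizer G (g • α) ⊓ stabilizer G (g • β) = _
    rw [map_inf _ _ _ (MulAut.conj g).injective, stabilizer_smul_eq_stabilizer_map_conj,
      stabilizer_smul_eq_stabilizer_map_conj]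
  rw [this, card_map_of_injective (MulAut.conj g).injective]

/-- The number of involutions. -/
theorem card_involutions (h : Setup B N) :
    Nat.card {s : G // orderOf s = 2} =
      Nat.card (G ⧸ N) * Nat.card {s : G // orderOf s = 2 ∧ s ∈ N} := by
  classical
  choose pt hpt _ using fun s : {s : G // orderOf s = 2} => h.inv_fix s.2
  haveI := Fintype.ofFinite (G ⧸ N)
  rw [← Nat.card_congr (Equiv.sigmaFiberEquiv pt), Nat.card_sigma, Nat.card_eq_fintype_card]
  rw [Finset.sum_congr rfl (g := fun _ => Nat.card {s : G // orderOf s = 2 ∧ s ∈ N}) fun α _ => ?_]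
  · rw [Finset.sum_const, Finset.card_univ, smul_eq_mul]
  · obtain ⟨g, rfl⟩ := QuotientGroup.mk_surjective α
    refine Nat.card_congr
      { toFun := fun s => ⟨g⁻¹ * s.1.1 * g, by simpa using (orderOf_conj_eq g⁻¹ s.1.1).trans s.1.2,
          (smul_coset_iff _ _).1 (show s.1.1 • (g : G ⧸ N) = (g : G ⧸ N) by
            have := hpt s.1; simp only [s.2] at this; exact this)⟩
        invFun := fun t => ⟨⟨g * t.1 * g⁻¹, (orderOf_conj_eq g t.1).trans t.2.1⟩,
          (h.inv_fix ((orderOf_conj_eq g t.1).trans t.2.1)).unique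
            (hpt (⟨_, (orderOf_conj_eq g t.1).trans t.2.1⟩ : {s : G // orderOf s = 2}))
            ((smul_coset_iff _ _).2 (by simpa [mul_assoc] using t.2.2))⟩
        left_inv := fun s => Subtype.ext (Subtype.ext (by simp [mul_assoc]))
        right_inv := fun t => Subtype.ext (by simp [mul_assoc]) }

/-- Some two-point stabilizer is nontrivial. -/
theorem exists_pair_ne_bot (h : Setup B N) :
    ∃ β : G ⧸ N, β ≠ base N ∧ pairStab (base N) β ≠ ⊥ := by
  classical
  by_contra hc
  push Not at hc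
  let f : {s : G // orderOf s = 2} → {s : G // orderOf s = 2 ∧ s ∈ N} ⊕ {β : G ⧸ N // β ≠ base N} :=
    fun s => if hs : s.1 ∈ N then Sum.inl ⟨s.1, s.2, hs⟩
      else Sum.inr ⟨s.1 • base N, fun e => hs ((smul_one_coset_iff _).1 e)⟩
  have hf : Function.Injective f := by
    intro s t e
    simp only [f] at e
    split_ifs at e with hs ht ht
    · exact Subtype.ext (congrArg (fun z : {s : G // orderOf s = 2 ∧ s ∈ N} => z.1) (Sum.inl.inj e))
    · have e' : s.1 • base N = t.1 • base N := congrArg Subtype.val (Sum.inr.inj e)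
      have hne : s.1 • base N ≠ base N := fun e => hs ((smul_one_coset_iff _).1 e)
      have hmem : s.1 * t.1 ∈ pairStab (base N) (s.1 • base N) := by
        refine mem_pairStab.2 ⟨?_, ?_⟩
        · rw [← smul_smul, ← e', smul_smul, mul_self_eq_one s.2, one_smul]
        · rw [← smul_smul, e', smul_smul t.1 t.1, mul_self_eq_one t.2, one_smul, e']
      rw [hc _ hne, mem_bot] at hmem
      exact Subtype.ext ((eq_inv_of_mul_eq_one_left hmem).trans (inv_eq_self_of_involution t.2))
  haveI := Fintype.ofFinite (G ⧸ N)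
  have h1 := Nat.card_le_card_of_injective f hf
  rw [Nat.card_sum, h.card_involutions, Nat.card_eq_fintype_card (α := {β : G ⧸ N // β ≠ base N}),
    Fintype.card_subtype_compl, Fintype.card_subtype_eq, ← Nat.card_eq_fintype_card] at h1
  set n := Nat.card (G ⧸ N) with hn
  set m := Nat.card {s : G // orderOf s = 2 ∧ s ∈ N} with hm
  have hn2 : 2 ≤ n := by
    by_contra hlt
    exact h.ne_top (Subgroup.index_eq_one.1 (show N.index = 1 by
      have := N.index_ne_zero_of_finite
      rw [Subgroup.index] at this ⊢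
      omega))
  have hm2 : 2 ≤ m := by
    have h3 : Nat.card {x : B // x ≠ 1} ≤ m := Nat.card_le_card_of_injective
      (fun x : {x : B // x ≠ 1} => (⟨(x.1 : G), elem_orderOf h.cl.elem x.1.2
        (fun e => x.2 (Subtype.ext e)), h.le_N x.1.2⟩ : {s : G // orderOf s = 2 ∧ s ∈ N}))
      (fun x y e => Subtype.ext (Subtype.ext (congrArg Subtype.val e :)))
    haveI := Fintype.ofFinite B
    rw [Nat.card_eq_fintype_card (α := {x : B // x ≠ 1}), Fintype.card_subtype_compl,
      Fintype.card_subtype_eq, ← Nat.card_eq_fintype_card] at h3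
    have := h.cl.rank
    omega
  nlinarith [Nat.sub_add_cancel (show 1 ≤ n by omega), Nat.mul_le_mul hn2 hm2]

theorem exists_max_pair (h : Setup B N) :
    ∃ β : G ⧸ N, β ≠ base N ∧ pairStab (base N) β ≠ ⊥ ∧
      ∀ γ δ : G ⧸ N, γ ≠ δ → Nat.card (pairStab γ δ) ≤ Nat.card (pairStab (base N) β) := by
  obtain ⟨β₀, hβ₀, hne⟩ := h.exists_pair_ne_bot
  obtain ⟨β, hβ, hmax⟩ := Set.Finite.exists_maximalFor
    (fun β : G ⧸ N => Nat.card (pairStab (base N) β)) {β | β ≠ base N} (Set.toFinite _) ⟨β₀, hβ₀⟩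
  have hle : ∀ γ : G ⧸ N, γ ≠ base N →
      Nat.card (pairStab (base N) γ) ≤ Nat.card (pairStab (base N) β) := fun γ hγ =>
    (le_total _ _).elim id fun hle => hmax hγ hle
  refine ⟨β, hβ, fun e => ?_, fun γ δ hγδ => ?_⟩
  · have h1 := hle β₀ hβ₀
    rw [e, card_bot] at h1
    exact hne (Subgroup.eq_bot_of_card_le _ h1)
  · obtain ⟨g, rfl⟩ := QuotientGroup.mk_surjective γ
    have e1 : (g : G ⧸ N) = g • base N := by
      rw [MulAction.Quotient.smul_coe, smul_eq_mul, mul_one]
    have e2 : δ = g • g⁻¹ • δ := (smul_inv_smul g δ).symm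
    rw [e1, e2, card_pairStab_smul]
    refine hle _ fun e => hγδ ?_
    rw [e1, ← e, smul_inv_smul]

/-- A `p`-element fixing the first point and centralizing a largest two-point stabilizer lies
in it. -/
theorem mem_pair_of_centralizes (h : Setup B N) (hn : PNil p G) (hp : p.Prime) (hp5 : 5 ≤ p)
    {β : G ⧸ N} (hβ : β ≠ base N) (hD : pairStab (base N) β ≠ ⊥)
    (hmax : ∀ γ δ : G ⧸ N, γ ≠ δ → Nat.card (pairStab γ δ) ≤ Nat.card (pairStab (base N) β))
    {c : G} (hcN : c ∈ N) (hcp : ∃ k, c ^ p ^ k = 1)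
    (hcD : ∀ d ∈ pairStab (base N) β, Commute c d) : c ∈ pairStab (base N) β := by
  classical
  haveI := h.simple
  haveI : Fact p.Prime := ⟨hp⟩
  haveI : Fact (Nat.Prime 2) := ⟨Nat.prime_two⟩
  set D := pairStab (base N) β with hDdef
  have hco : c • base N = base N := (smul_one_coset_iff c).2 hcN
  have heq : ∀ γ, γ ≠ base N → (∀ d ∈ D, d • γ = γ) → pairStab (base N) γ = D := by
    intro γ hγ hfix
    exact (eq_of_le_of_card_ge (fun d hd => mem_pairStab.2 ⟨(mem_pairStab.1 hd).1, hfix d hd⟩)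
      (hmax _ _ hγ.symm)).symm
  have hthird : ∀ γ, γ ≠ base N → (∀ d ∈ D, d • γ = γ) → c • γ = γ → c ∈ D := fun γ h1 h2 h3 =>
    heq γ h1 h2 ▸ mem_pairStab.2 ⟨hco, h3⟩
  obtain ⟨t, ht, htα, htβ⟩ := h.exists_swap hβ.symm
  have htt : t⁻¹ = t := inv_eq_self_of_involution ht
  have htD : ∀ d ∈ D, t * d * t⁻¹ ∈ D := fun d hd => by
    obtain ⟨h1, h2⟩ := mem_pairStab.1 hd
    exact mem_pairStab.2
      ⟨by rw [← htβ, smul_conj_coset, h2], by rw [← htα, smul_conj_coset, h1]⟩
  set H₀ := centralizer (D : Set G) with hH₀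
  have hmemH : ∀ x, x ∈ H₀ ↔ ∀ d ∈ D, Commute x d := fun x =>
    ⟨fun hx d hd => (mem_centralizer_iff.1 hx d hd).symm,
      fun hx => mem_centralizer_iff.2 fun d hd => (hx d hd).eq.symm⟩
  have hfixH : ∀ x ∈ H₀, ∀ γ : G ⧸ N, (∀ d ∈ D, d • γ = γ) → ∀ d ∈ D, d • x • γ = x • γ := by
    intro x hx γ hγ d hd
    rw [smul_smul, ← ((hmemH x).1 hx d hd).eq, ← smul_smul, hγ d hd]
  have hcH : c ∈ H₀ := (hmemH c).2 hcD
  have htH : ∀ x ∈ H₀, t * x * t⁻¹ ∈ H₀ := fun x hx => (hmemH _).2 fun d hd => by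
    have := ((hmemH x).1 hx _ (htD d hd)).map (MulAut.conj t).toMonoidHom
    simpa [mul_assoc, htt, mul_self_eq_one ht, ← mul_assoc t t] using this
  have hH₀ne : H₀ ≠ ⊤ := fun e => by
    obtain ⟨d, hd, hd1⟩ : ∃ d ∈ D, d ≠ 1 := by
      by_contra hc'
      push Not at hc'
      exact hD ((D.eq_bot_iff_forall).2 hc')
    exact centralizer_ne_top h.nsolv hd1 (eq_top_iff.2 fun x _ =>
      mem_centralizer_singleton_iff.2 ((hmemH x).1 (e ▸ mem_top x) d hd).eq)
  haveI := h.solv H₀ hH₀ne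
  by_cases hle : H₀ ≤ N
  · have h1 := (smul_one_coset_iff _).2 (hle (htH c hcH))
    have h2 : t • c • β = base N := by
      rw [← smul_conj_coset t c β, htβ]
      exact h1
    refine mem_pairStab.2 ⟨hco, ?_⟩
    calc c • β = t • t • c • β := by rw [smul_smul t t, mul_self_eq_one ht, one_smul]
      _ = β := by rw [h2, htα]
  set K := (Cfsg.pPrimeCore p H₀).map H₀.subtype with hK
  have hKH : K ≤ H₀ := map_subtype_le _
  have hKcop : (Nat.card K).Coprime p := by
    rw [card_map_of_injective H₀.subtype_injective]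
    exact CfsgLib.PCore.pPrimeCore_coprime
  have hKinv : ∀ g : G, (∀ x ∈ H₀, g * x * g⁻¹ ∈ H₀) → ∀ k ∈ K, g * k * g⁻¹ ∈ K := by
    intro g hg
    have hgn : g ∈ normalizer (H₀ : Set G) := by
      refine mem_normalizer_fintype fun x hx => hg x hx
    rintro _ ⟨k, hk, rfl⟩
    exact ⟨H₀.normalizerMonoidHom ⟨g, hgn⟩ k,
      (CfsgLib.PCore.map_pPrimeCore_equiv _).le (mem_map_of_mem _ hk), rfl⟩
  by_cases hK1 : K = ⊥
  · -- the case of trivial `p'`-core
    have hO : Cfsg.pPrimeCore p H₀ = ⊥ :=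
      (map_eq_bot_iff_of_injective _ H₀.subtype_injective).1 hK1
    set R := (Cfsg.pCore p H₀).map H₀.subtype with hR
    have hRp : IsPGroup p R := CfsgLib.PCore.pCore_isPGroup.map _
    have hRnorm : ∀ x ∈ H₀, ∀ r ∈ R, x * r * x⁻¹ ∈ R := by
      rintro x hx _ ⟨r, hr, rfl⟩
      exact ⟨⟨x, hx⟩ * r * ⟨x, hx⟩⁻¹, (Cfsg.pCore_normal p _).conj_mem r hr _, rfl⟩
    have hRN : ¬ R ≤ N := by
      intro hRN
      obtain ⟨x, hx, hxN⟩ := SetLike.not_le_iff_exists.1 hle
      apply hle
      have hγ : x • base N ≠ base N := fun e => hxN ((smul_one_coset_iff x).1 e)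
      have hRD : R ≤ D := fun r hr => by
        rw [← heq _ hγ (hfixH x hx _ fun d hd => (mem_pairStab.1 hd).1)]
        have hr' : x⁻¹ * r * x⁻¹⁻¹ ∈ N := hRN (hRnorm x⁻¹ (inv_mem hx) r hr)
        refine mem_pairStab.2 ⟨(smul_one_coset_iff r).2 (hRN hr), ?_⟩
        calc r • x • base N = (x * (x⁻¹ * r * x⁻¹⁻¹) * x⁻¹) • x • base N := by
              congr 1; group
          _ = x • base N := by rw [smul_conj_coset, (smul_one_coset_iff _).2 hr']
      intro y hy
      refine hRN ⟨⟨y, hy⟩, CfsgLib.InvChar.centralizer_pCore_le hO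
        (mem_centralizer_iff.2 fun r hr => Subtype.ext ?_), rfl⟩
      exact ((hmemH y).1 hy r (hRD ⟨r, hr, rfl⟩)).eq.symm
    set orb : Set (G ⧸ N) := {γ | ∃ r ∈ R, γ = r • base N} with horb
    haveI := Fintype.ofFinite orb
    have hsub : ∀ γ ∈ orb, c • γ ∈ orb := by
      rintro _ ⟨r, hr, rfl⟩
      exact ⟨c * r * c⁻¹, hRnorm c hcH r hr, by conv_rhs => rw [← hco, smul_conj_coset]⟩
    obtain ⟨k, hk⟩ := hcp
    have hP : IsPGroup p (zpowers c) := by
      intro z
      obtain ⟨i, hi⟩ := mem_zpowers_iff.1 z.2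
      refine ⟨k, Subtype.ext ?_⟩
      rw [SubgroupClass.coe_pow, ← hi, ← zpow_natCast, ← zpow_mul, mul_comm, zpow_mul,
        zpow_natCast, hk, one_zpow]
      rfl
    have hsub' : ∀ z ∈ zpowers c, ∀ γ ∈ orb, z • γ ∈ orb := by
      intro z hz
      obtain ⟨i, rfl⟩ := (Submonoid.mem_powers_iff _ _).1 (mem_powers_iff_mem_zpowers.2 hz)
      clear hz
      induction i with
      | zero => intro γ hγ; simpa using hγ
      | succ i ih => intro γ hγ; rw [pow_succ', ← smul_smul]; exact hsub _ (ih γ hγ)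
    letI : MulAction (zpowers c) orb :=
      { smul := fun z γ => ⟨(z : G) • (γ : G ⧸ N), hsub' z z.2 γ γ.2⟩
        one_smul := fun γ => Subtype.ext (one_smul G (γ : G ⧸ N))
        mul_smul := fun a b γ => Subtype.ext (mul_smul (a : G) (b : G) (γ : G ⧸ N)) }
    -- the orbit has order divisible by `p`
    let f : R → orb := fun r => ⟨(r : G) • base N, r, r.2, rfl⟩
    have hcard : p ∣ Nat.card orb := by
      have e1 : Nat.card orb = Nat.card (orbit R (base N)) := by
        refine Nat.card_congr (Equiv.setCongr ?_)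
        ext γ
        exact ⟨fun ⟨r, hr, e⟩ => ⟨⟨r, hr⟩, e.symm⟩, fun ⟨r, e⟩ => ⟨r, r.2, e.symm⟩⟩
      obtain ⟨i, hi⟩ := hRp.card_orbit (base N)
      rw [e1, hi]
      rcases i with _ | i
      · exfalso
        apply hRN
        intro r hr
        rw [pow_zero, Nat.card_eq_one_iff_unique] at hi
        have := congrArg Subtype.val (hi.1.elim ⟨r • base N, ⟨r, hr⟩, rfl⟩
          ⟨base N, mem_orbit_self _⟩)
        exact (smul_one_coset_iff r).1 this
      · exact dvd_pow_self p i.succ_ne_zero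
    obtain ⟨γ, hγfix, hγne⟩ := hP.exists_fixed_point_of_prime_dvd_card_of_fixed_point orb hcard
      (a := ⟨base N, 1, one_mem _, (one_smul G _).symm⟩) (fun z => Subtype.ext (by
        obtain ⟨i, hi⟩ := mem_zpowers_iff.1 z.2
        show (z : G) • base N = base N
        rw [← hi]
        exact zpow_mem (mem_stabilizer_iff.2 hco) i))
    obtain ⟨r, hr, hrγ⟩ := γ.2
    refine hthird (γ : G ⧸ N) (fun e => hγne (Subtype.ext e.symm)) ?_
      (congrArg Subtype.val (hγfix ⟨c, mem_zpowers c⟩))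
    rw [hrγ]
    exact hfixH r (map_subtype_le _ hr) _ fun d hd => (mem_pairStab.1 hd).1
  -- the case of nontrivial `p'`-core
  haveI : Group.IsNilpotent K := hn K hKcop
  haveI : Nontrivial K := (Subgroup.nontrivial_iff_ne_bot K).2 hK1
  set Z := (Subgroup.center K).map K.subtype with hZ
  have hZK : Z ≤ K := map_subtype_le _
  have hZ1 : Z ≠ ⊥ := fun e =>
    Group.IsNilpotent.center_ne_bot (G := K) ((map_eq_bot_iff_of_injective _ K.subtype_injective).1 e)
  have hZcomm : ∀ a ∈ Z, ∀ b ∈ K, Commute a b := by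
    rintro _ ⟨a, ha, rfl⟩ b hb
    exact (congrArg Subtype.val (mem_center_iff.1 ha ⟨b, hb⟩)).symm
  have hZmem : ∀ a, a ∈ K → (∀ b ∈ K, Commute a b) → a ∈ Z := fun a ha hab =>
    ⟨⟨a, ha⟩, mem_center_iff.2 fun b => Subtype.ext (hab b b.2).eq.symm, rfl⟩
  have hZinv : ∀ g : G, (∀ k ∈ K, g * k * g⁻¹ ∈ K) → ∀ a ∈ Z, g * a * g⁻¹ ∈ Z := by
    intro g hg a ha
    refine hZmem _ (hg a (hZK ha)) fun b hb => ?_
    have heqK : K.map (MulAut.conj g).toMonoidHom = K :=
      eq_of_le_of_card_ge (by rintro _ ⟨y, hy, rfl⟩; exact hg y hy)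
        (card_map_of_injective (MulAut.conj g).injective).ge
    obtain ⟨b', hb', rfl⟩ : b ∈ K.map (MulAut.conj g).toMonoidHom := heqK.symm ▸ hb
    exact (hZcomm a ha b' hb').map (MulAut.conj g).toMonoidHom
  obtain ⟨x, hxZ, hx1⟩ : ∃ x ∈ Z, x ≠ 1 := by
    by_contra hc'
    push Not at hc'
    exact hZ1 ((Z.eq_bot_iff_forall).2 hc')
  have hZt := hZinv t (hKinv t htH)
  -- a nontrivial element of `Z` commuting with `t`
  obtain ⟨k, hkZ, hk1, hkt⟩ : ∃ k ∈ Z, k ≠ 1 ∧ Commute k t := by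
    obtain ⟨q, hq, hqd⟩ := Nat.exists_prime_and_dvd (fun e => hx1 (orderOf_eq_one_iff.1 e))
    set y := x ^ (orderOf x / q) with hy
    have hyo : orderOf y = q := by
      rw [hy, orderOf_pow_of_dvd (Nat.div_pos (Nat.le_of_dvd (orderOf_pos x) hqd) hq.pos).ne'
        (Nat.div_dvd_of_dvd hqd), Nat.div_div_self hqd (orderOf_pos x).ne']
    have hyZ : y ∈ Z := pow_mem hxZ _
    have hy1 : y ≠ 1 := fun e => hq.one_lt.ne' (by rw [← hyo, e, orderOf_one])
    have hqp : q ≠ p := by
      rintro rfl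
      exact hq.coprime_iff_not_dvd.1 hKcop.symm
        (hyo ▸ orderOf_dvd_natCard _ (hZK hyZ))
    set w := y * (t * y * t⁻¹) with hw
    by_cases hw1 : w = 1
    · have hinv : t * y * t⁻¹ = y⁻¹ := eq_inv_of_mul_eq_one_right hw1
      refine ⟨y, hyZ, hy1, ?_⟩
      by_cases hq2 : q = 2
      · have hyy : y⁻¹ = y := inv_eq_self_of_involution (x := y) (hyo.trans hq2)
        rw [hyy] at hinv
        exact (mul_inv_eq_iff_eq_mul.1 hinv).symm
      · haveI : Fact q.Prime := ⟨hq⟩
        refine hn.commute_prime hp hq Nat.prime_two hq2 hqp (by omega)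
          (IsPGroup.of_card (n := 1) (by rw [Nat.card_zpowers, hyo, pow_one])) (mem_zpowers y) ?_
          ⟨1, by rw [pow_one, pow_two, mul_self_eq_one ht]⟩
        refine mem_normalizer_fintype fun z hz => ?_
        obtain ⟨i, rfl⟩ := mem_zpowers_iff.1 hz
        rw [inverts_zpow hinv]
        exact inv_mem (zpow_mem (mem_zpowers y) i)
    · refine ⟨w, mul_mem hyZ (hZt y hyZ), hw1, ?_⟩
      have hc2 : Commute y (t * y * t⁻¹) := hZcomm y hyZ _ (hZK (hZt y hyZ))
      show w * t = t * w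
      rw [hw, htt]
      calc y * (t * y * t) * t = y * t * y * (t * t) := by group
        _ = (t * t) * (y * t * y) := by rw [mul_self_eq_one ht, mul_one, one_mul]
        _ = t * (t * y * t * y) := by group
        _ = t * (y * (t * y * t)) := by
            rw [htt] at hc2
            rw [← hc2.eq]
  obtain ⟨γ, hγ, -⟩ := h.inv_fix ht
  have hγne : γ ≠ base N := fun e => hβ (by rw [← htα, ← e, hγ])
  have hkγ : k • γ = γ := h.cent_fix ht hkt hγ
  have hkcop : ∀ a ∈ Z, (orderOf a).Coprime p := fun a ha =>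
    Nat.Coprime.coprime_dvd_left (orderOf_dvd_natCard _ (hZK ha)) hKcop
  have huniq : ∀ δ, k • δ = δ → δ = γ := fun δ hδ =>
    h.eq_of_fix hn hp (by omega) hk1 (hkcop k hkZ) hδ hkγ
  refine hthird γ hγne (fun d hd => huniq _ ?_) ?_
  · rw [smul_smul, ((hmemH k).1 (hKH (hZK hkZ)) d hd).eq, ← smul_smul, hkγ]
  · have hck := hZinv c (hKinv c fun x hx => mul_mem (mul_mem hcH hx) (inv_mem hcH)) k hkZ
    have hck1 : c * k * c⁻¹ ≠ 1 := fun e => hk1 (conj_eq_one_iff.1 e)
    have h1 : (c * k * c⁻¹) • γ = γ := huniq _ (by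
      rw [smul_smul, ← (hZcomm _ hck k (hZK hkZ)).eq, ← smul_smul, hkγ])
    exact h.eq_of_fix hn hp (by omega) hck1 (hkcop _ hck) (by rw [smul_conj_coset, hkγ]) h1

end Setup

end CfsgLib.MinSimple12
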