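import Mathlib
import Cfsg.Agent.Lib.MinSimple12.Pairs
import Cfsg.Agent.Lib.PLocal5.PGroupBasic

/-!
The case in which `B` is normal in the point stabilizer `N`.
-/

set_option autoImplicit false
set_option linter.unusedSectionVars false
set_option linter.style.haveILetI false

namespace CfsgLib.MinSimple12

open Subgroup CfsgLib.Involutions MulAction

universe u

theorem two_pow_sub_one_prime_pow {k a p : ℕ} (hp : p.Prime) (hk : 2 ≤ k)
    (h : 2 ^ k = p ^ a + 1) : 2 ^ k = p + 1 := by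
  have h4 : 4 ∣ 2 ^ k := Dvd.dvd.trans (by norm_num) (pow_dvd_pow 2 hk)
  have hodd : Odd p := by
    refine hp.odd_of_ne_two fun e => ?_
    subst e
    rcases a with _ | a
    · rw [pow_zero] at h; omega
    · have : (2 : ℕ) ∣ 2 ^ (a + 1) := dvd_pow_self 2 a.succ_ne_zero
      omega
  rcases Nat.even_or_odd a with ⟨i, hi⟩ | ha
  · exfalso
    have h2 : p ^ a % 4 = 1 := by
      have h5 : p ^ a = (p * p) ^ i := by rw [hi, ← two_mul, pow_mul, pow_two]
      have h6 : (p * p) % 4 = 1 := by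
        obtain ⟨j, rfl⟩ := hodd
        have : (2 * j + 1) * (2 * j + 1) = 4 * (j * j + j) + 1 := by ring
        omega
      rw [h5, Nat.pow_mod, h6, one_pow, Nat.one_mod_eq_one.2 (by norm_num)]
    omega
  · have h7 : p ^ a + 1 = (p + 1) * ∑ j ∈ Finset.range a, p ^ j ∨ a = 1 ∨ 1 < a := by
      rcases ha with ⟨i, rfl⟩
      rcases i with _ | i
      · exact Or.inr (Or.inl rfl)
      · exact Or.inr (Or.inr (by omega))
    by_cases ha1 : a = 1
    · rw [h, ha1, pow_one]
    exfalso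
    set Q : ℤ := ∑ j ∈ Finset.range a, (-(p : ℤ)) ^ j with hQ
    have hfac : ((p : ℤ) + 1) * Q = (p : ℤ) ^ a + 1 := by
      have hg := geom_sum_mul (-(p : ℤ)) a
      rw [ha.neg_pow] at hg
      rw [hQ]
      linarith
    have hQodd : Odd Q := by
      have key : ∀ n : ℕ, (Even (∑ j ∈ Finset.range n, (-(p : ℤ)) ^ j) ↔ Even n) := by
        intro n
        induction n with
        | zero => simp
        | succ n ih =>
          have hj : ¬ Even ((-(p : ℤ)) ^ n) :=
            Int.not_even_iff_odd.2 (((Int.odd_coe_nat p).2 hodd).neg.pow)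
          rw [Finset.sum_range_succ, Int.even_add, ih, Nat.even_add_one]
          tauto
      rw [← Int.not_even_iff_odd, hQ, key, Nat.not_even_iff_odd]
      exact ha
    have hdvd : Q ∣ ((2 : ℤ) ^ k) := ⟨(p : ℤ) + 1, by rw [mul_comm, hfac]; exact_mod_cast h⟩
    have hdn : Q.natAbs ∣ 2 ^ k := by
      have := Int.natAbs_dvd_natAbs.2 hdvd
      rwa [Int.natAbs_pow] at this
    obtain ⟨j, -, hj⟩ := (Nat.dvd_prime_pow Nat.prime_two).1 hdn
    have hQ1 : Q.natAbs = 1 := by
      rcases j with _ | j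
      · simpa using hj
      · exact absurd (Int.natAbs_odd.2 hQodd) (by
          rw [hj, Nat.not_odd_iff_even]; exact (Nat.even_pow' j.succ_ne_zero).2 even_two)
    have h8 := congrArg Int.natAbs hfac
    rw [Int.natAbs_mul, hQ1, mul_one] at h8
    have h9 : p + 1 = p ^ a + 1 := by exact_mod_cast h8
    have h10 : p ^ 1 < p ^ a := Nat.pow_lt_pow_right hp.one_lt (by
      rcases ha with ⟨i, rfl⟩; omega)
    rw [pow_one] at h10
    omega

variable {G : Type u} [Group G] [Finite G] {B N : Subgroup G} {p : ℕ}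

/-- The nontrivial elements of `B`. -/
def Sharp (B : Subgroup G) : Type u := {b : G // b ∈ B ∧ b ≠ 1}

instance : Finite (Sharp B) := inferInstanceAs (Finite {b : G // b ∈ B ∧ b ≠ 1})

/-- Conjugation on the nontrivial elements of `B`. -/
noncomputable def sharpAction {X : Subgroup G} (hX : X ≤ normalizer (B : Set G)) :
    MulAction X (Sharp B) where
  smul x b := ⟨(x : G) * b.1 * (x : G)⁻¹, (mem_normalizer_iff.1 (hX x.2) _).1 b.2.1,
    fun e => b.2.2 (conj_eq_one_iff.1 e)⟩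
  one_smul b := Subtype.ext (show ((1 : X) : G) * b.1 * ((1 : X) : G)⁻¹ = b.1 by simp)
  mul_smul x y b := Subtype.ext
    (show ((x * y : X) : G) * b.1 * ((x * y : X) : G)⁻¹ =
      (x : G) * ((y : G) * b.1 * (y : G)⁻¹) * (x : G)⁻¹ by push_cast; group)

theorem card_sharp (B : Subgroup G) : Nat.card (Sharp B) = Nat.card B - 1 := by
  classical
  haveI := Fintype.ofFinite B
  rw [Nat.card_congr (show Sharp B ≃ {x : B // x ≠ 1} from
    { toFun := fun b => ⟨⟨b.1, b.2.1⟩, fun e => b.2.2 (congrArg Subtype.val e)⟩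
      invFun := fun x => ⟨x.1.1, x.1.2, fun e => x.2 (Subtype.ext e)⟩
      left_inv := fun _ => rfl
      right_inv := fun _ => rfl }),
    Nat.card_eq_fintype_card, Fintype.card_subtype_compl, Fintype.card_subtype_eq,
    ← Nat.card_eq_fintype_card]

namespace Setup

/-- With `B` normal in `N`, all involutions of `N` lie in `B`. -/
theorem involution_mem (h : Setup B N) (hN : N ≤ normalizer (B : Set G)) {i : G}
    (hi : orderOf i = 2) (hiN : i ∈ N) : i ∈ B := by
  obtain ⟨g, b, hb, hb1, rfl⟩ := h.all_btype hi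
  exact (mem_normalizer_iff.1 (hN (h.mem_of_conj hb hb1 hiN)) b).1 hb

/-- `N` is transitive on the nontrivial elements of `B`. -/
theorem exists_conj_eq (h : Setup B N) {b c : G} (hb : b ∈ B) (hb1 : b ≠ 1) (hc : c ∈ B)
    (hc1 : c ≠ 1) : ∃ n ∈ N, n * b * n⁻¹ = c := by
  obtain ⟨g, hg⟩ : ∃ g, g ∉ N := by
    by_contra hall
    push Not at hall
    exact h.ne_top (eq_top_iff.2 fun x _ => hall x)
  have hb2 := elem_orderOf h.cl.elem hb hb1
  have hc2 := elem_orderOf h.cl.elem hc hc1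
  have key : ∀ d ∈ B, d ≠ 1 → IsConj d (g * c * g⁻¹) := by
    intro d hd hd1
    by_contra hne
    obtain ⟨z, hz, hzd, hzc⟩ := exists_common_involution (elem_orderOf h.cl.elem hd hd1)
      ((orderOf_conj_eq g c).trans hc2) hne
    have h1 : z • base N = base N :=
      h.cent_fix (elem_orderOf h.cl.elem hd hd1) hzd ((smul_one_coset_iff d).2 (h.le_N hd))
    have h2 : z • (g : G ⧸ N) = (g : G ⧸ N) := h.cent_fix ((orderOf_conj_eq g c).trans hc2) hzc
      ((smul_coset_iff _ _).2 (by simpa [mul_assoc] using h.le_N hc))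
    have h3 := (h.inv_fix hz).unique h1 h2
    rw [QuotientGroup.eq, inv_one, one_mul] at h3
    exact hg h3
  obtain ⟨n, hn⟩ := isConj_iff.1 ((key b hb hb1).trans (key c hc hc1).symm)
  exact ⟨n, h.mem_of_conj hb hb1 (hn ▸ h.le_N hc), hn⟩

theorem normal_of_two_core (h : Setup B N) (hR : Cfsg.pCore 2 N ≠ ⊥) :
    N ≤ normalizer (B : Set G) := by
  haveI : Fact (Nat.Prime 2) := ⟨Nat.prime_two⟩
  obtain ⟨T, hBT, hTN, -⟩ := h.exists_sylow
  have hRT := CfsgLib.PCore.pCore_le_sylow (T.subtype hTN)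
  haveI := (Subgroup.nontrivial_iff_ne_bot _).2 hR
  obtain ⟨z, -, -, hzo⟩ := CfsgLib.PGroupBasic.exists_central_orderOf_eq
    (CfsgLib.PCore.pCore_isPGroup (p := 2) (G := N)) (⊤ : Subgroup (Cfsg.pCore 2 N)) top_ne_bot
  have key : ∀ i : N, orderOf i = 2 → i ∈ Cfsg.pCore 2 N → (i : G) ∈ B := by
    intro i hi hiR
    obtain ⟨g, b, hb, hb1, hgb⟩ := h.all_btype (show orderOf (i : G) = 2 by
      rw [Subgroup.orderOf_coe]; exact hi)
    rw [hgb]
    exact h.cl.closed _ T.2 hBT b hb g (hgb ▸ hRT hiR)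
  have hz0 : orderOf (z : N) = 2 := by rw [Subgroup.orderOf_coe]; exact hzo
  have hzB : ((z : N) : G) ∈ B := key z hz0 z.2
  have hz1 : ((z : N) : G) ≠ 1 := fun e => by
    rw [show (z : N) = 1 from Subtype.ext e, orderOf_one] at hz0
    omega
  have hBR : ∀ b, (hb : b ∈ B) → (⟨b, h.le_N hb⟩ : N) ∈ Cfsg.pCore 2 N := by
    intro b hb
    by_cases hb1 : b = 1
    · rw [show (⟨b, h.le_N hb⟩ : N) = 1 from Subtype.ext hb1]; exact one_mem _
    obtain ⟨n, hn, hnb⟩ := h.exists_conj_eq hzB hz1 hb hb1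
    have := (Cfsg.pCore_normal 2 _).conj_mem (z : N) z.2 (⟨n, hn⟩ : N)
    exact (Subtype.ext hnb : ⟨n, hn⟩ * (z : N) * ⟨n, hn⟩⁻¹ = (⟨b, h.le_N hb⟩ : N)) ▸ this
  have hstep : ∀ n ∈ N, ∀ b ∈ B, n * b * n⁻¹ ∈ B := by
    intro n hn b hb
    by_cases hb1 : b = 1
    · rw [hb1]; simp
    exact key (⟨n, hn⟩ * ⟨b, h.le_N hb⟩ * ⟨n, hn⟩⁻¹)
      (by
        show orderOf _ = 2
        rw [← Subgroup.orderOf_coe]
        exact (orderOf_conj_eq n b).trans (elem_orderOf h.cl.elem hb hb1))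
      ((Cfsg.pCore_normal 2 _).conj_mem _ (hBR b hb) _)
  exact fun n hn => mem_normalizer_iff.2 fun b => ⟨hstep n hn b, fun hb => by
    simpa [mul_assoc] using hstep n⁻¹ (inv_mem hn) _ hb⟩

theorem card_eq_succ (h : Setup B N) (hn : PNil p G) (hp : p.Prime) (hp2 : p ≠ 2)
    (hN : N ≤ normalizer (B : Set G)) : Nat.card B = p + 1 := by
  haveI : Fact (Nat.Prime 2) := ⟨Nat.prime_two⟩
  obtain ⟨T, hBT, hTN, hTB⟩ := h.exists_sylow
  haveI : (B.subgroupOf (T : Subgroup G)).Normal := ⟨fun b hb t => mem_subgroupOf.2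
    ((mem_normalizer_iff.1 (hTB t.2) _).1 (mem_subgroupOf.1 hb))⟩
  obtain ⟨z, hzB, hzc, hzo⟩ := CfsgLib.PGroupBasic.exists_central_orderOf_eq T.2
    (B.subgroupOf (T : Subgroup G)) (fun e => by
      have := congrArg (Subgroup.map (T : Subgroup G).subtype) e
      rw [subgroupOf_map_subtype, inf_of_le_left hBT, Subgroup.map_bot] at this
      have h8 := h.cl.rank
      rw [this, card_bot] at h8
      omega)
  have hz1 : (z : G) ≠ 1 := fun e => by
    rw [show z = 1 from Subtype.ext e, orderOf_one] at hzo; omega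
  letI := sharpAction (B := B) (X := N) hN
  let z' : Sharp B := ⟨z, mem_subgroupOf.1 hzB, hz1⟩
  haveI : IsPretransitive N (Sharp B) := ⟨fun a b => by
    obtain ⟨n, hnN, hnb⟩ := h.exists_conj_eq a.2.1 a.2.2 b.2.1 b.2.2
    exact ⟨⟨n, hnN⟩, Subtype.ext hnb⟩⟩
  have hidx := MulAction.index_stabilizer_of_transitive N z'
  have hpow : ∀ q : ℕ, q.Prime → q ∣ Nat.card (Sharp B) → q = p := by
    intro q hq hqd
    by_contra hqp
    haveI : Fact q.Prime := ⟨hq⟩
    have hmem : ∀ x : N, (x : G) * z = z * x → x ∈ stabilizer N z' := fun x hx =>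
      Subtype.ext (show (x : G) * (z : G) * (x : G)⁻¹ = (z : G) by rw [hx, mul_inv_cancel_right])
    by_cases hq2 : q = 2
    · subst hq2
      refine (T.subtype hTN).not_dvd_index (hqd.trans (hidx ▸ index_dvd_of_le ?_))
      intro x hx
      exact hmem x (congrArg Subtype.val (mem_center_iff.1 hzc ⟨(x : G), hx⟩))
    · obtain ⟨Q⟩ : Nonempty (Sylow q N) := inferInstance
      refine Q.not_dvd_index (hqd.trans (hidx ▸ index_dvd_of_le ?_))
      intro x hx
      obtain ⟨i, hi⟩ := Q.2 ⟨x, hx⟩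
      exact hmem x (hn.commute_prime hp Nat.prime_two hq (Ne.symm hq2) (Ne.symm hp2) hqp
        (elem_isPGroup h.cl.elem) (mem_subgroupOf.1 hzB) (hN x.2)
        ⟨i, congrArg Subtype.val (congrArg Subtype.val hi)⟩).eq.symm
  obtain ⟨k, hk⟩ := IsPGroup.iff_card.1 (elem_isPGroup h.cl.elem)
  have h8 := h.cl.rank
  rw [card_sharp] at hpow
  have hA : Nat.card B - 1 = p ^ (Nat.card B - 1).primeFactorsList.length :=
    Nat.eq_prime_pow_of_unique_prime_dvd (by omega) fun {q} hq hqd => hpow q hq hqd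
  have hk2 : 2 ≤ k := by
    by_contra hlt
    interval_cases k <;> omega
  rw [hk] at hA ⊢
  refine two_pow_sub_one_prime_pow hp hk2 (a := (2 ^ k - 1).primeFactorsList.length) ?_
  have : 1 ≤ 2 ^ k := Nat.one_le_two_pow
  omega

/-- A `p`-element of `N` centralizing an involution of `B` centralizes `B`. -/
theorem commutes_all (h : Setup B N) (hcard : Nat.card B = p + 1) [Fact p.Prime]
    (hN : N ≤ normalizer (B : Set G)) {x : G} (hx : x ∈ N) (hxp : ∃ k, x ^ p ^ k = 1)
    {b : G} (hb : b ∈ B) (hb1 : b ≠ 1) (hxb : Commute x b) : ∀ c ∈ B, Commute x c := by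
  intro c hc
  by_cases hc1 : c = 1
  · rw [hc1]; exact Commute.one_right x
  letI := sharpAction (B := B) (X := zpowers x) ((zpowers_le.2 hx).trans hN)
  obtain ⟨k, hk⟩ := hxp
  have hP : IsPGroup p (zpowers x) := by
    intro z
    obtain ⟨i, hi⟩ := mem_zpowers_iff.1 z.2
    refine ⟨k, Subtype.ext ?_⟩
    rw [SubgroupClass.coe_pow, ← hi, ← zpow_natCast, ← zpow_mul, mul_comm, zpow_mul,
      zpow_natCast, hk, one_zpow]
    rfl
  have hmod := hP.card_modEq_card_fixedPoints (Sharp B)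
  rw [card_sharp, hcard, Nat.add_sub_cancel] at hmod
  have hne : Nonempty (fixedPoints (zpowers x) (Sharp B)) := ⟨⟨⟨b, hb, hb1⟩, fun z => Subtype.ext (by
    obtain ⟨i, hi⟩ := mem_zpowers_iff.1 z.2
    show (z : G) * b * (z : G)⁻¹ = b
    rw [← hi, (hxb.zpow_left i).eq, mul_inv_cancel_right])⟩⟩
  have hpos : 0 < Nat.card (fixedPoints (zpowers x) (Sharp B)) := Nat.card_pos
  have hle : Nat.card (fixedPoints (zpowers x) (Sharp B)) ≤ Nat.card (Sharp B) :=
    Nat.card_le_card_of_injective Subtype.val Subtype.val_injective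
  rw [card_sharp, hcard, Nat.add_sub_cancel] at hle
  have hd : p ∣ Nat.card (fixedPoints (zpowers x) (Sharp B)) :=
    Nat.modEq_zero_iff_dvd.1 (hmod.symm.trans (Nat.modEq_zero_iff_dvd.2 dvd_rfl))
  have heq := le_antisymm hle (Nat.le_of_dvd hpos hd)
  have hbij : Function.Bijective (Subtype.val : fixedPoints (zpowers x) (Sharp B) → Sharp B) :=
    (Nat.bijective_iff_injective_and_card _).2
      ⟨Subtype.val_injective, by rw [heq, card_sharp, hcard, Nat.add_sub_cancel]⟩
  obtain ⟨w, hw⟩ := hbij.2 ⟨c, hc, hc1⟩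
  have hfix := w.2 ⟨x, mem_zpowers x⟩
  rw [hw] at hfix
  exact mul_inv_eq_iff_eq_mul.1 (congrArg Subtype.val hfix :)

/-- A `p`-subgroup of `N` acts on `B` as a group of order at most `p`. -/
theorem pgroup_image (h : Setup B N) (hcard : Nat.card B = p + 1) [Fact p.Prime]
    (hN : N ≤ normalizer (B : Set G)) {P : Subgroup G} (hP : IsPGroup p P) (hPN : P ≤ N) :
    (∀ a ∈ P, ∀ b ∈ P, ∀ c ∈ B, Commute (a * b * a⁻¹ * b⁻¹) c) ∧
      ((∀ x ∈ P, (∀ c ∈ B, Commute x c) → x = 1) → Nat.card P ≤ p) := by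
  have hp : p.Prime := Fact.out
  letI := sharpAction (B := B) (X := P) (hPN.trans hN)
  set φ := MulAction.toPermHom P (Sharp B) with hφ
  have hker : ∀ x : P, φ x = 1 → ∀ c ∈ B, Commute (x : G) c := by
    intro x hx c hc
    by_cases hc1 : c = 1
    · rw [hc1]; exact Commute.one_right _
    have := congrArg (fun e : Equiv.Perm (Sharp B) => e ⟨c, hc, hc1⟩) hx
    exact mul_inv_eq_iff_eq_mul.1 (congrArg Subtype.val this :)
  obtain ⟨i, hi⟩ := IsPGroup.iff_card.1 ((hP.to_subgroup (⊤ : Subgroup P)).map φ)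
  have hd : Nat.card ((⊤ : Subgroup P).map φ) ∣ p.factorial := by
    have := Subgroup.card_subgroup_dvd_card ((⊤ : Subgroup P).map φ)
    rwa [Nat.card_perm, card_sharp, hcard, Nat.add_sub_cancel] at this
  have hile : i ≤ 1 := by
    by_contra hlt
    rw [hi] at hd
    have h2 : p ^ 2 ∣ p * (p - 1).factorial := by
      rw [Nat.mul_factorial_pred hp.ne_zero]
      exact (pow_dvd_pow p (not_le.1 hlt)).trans hd
    rw [pow_two] at h2
    have := (hp.dvd_factorial).1 (Nat.dvd_of_mul_dvd_mul_left hp.pos h2)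
    have := hp.one_lt
    omega
  have hcardle : Nat.card φ.range ≤ p := by
    rw [MonoidHom.range_eq_map, hi]
    calc p ^ i ≤ p ^ 1 := Nat.pow_le_pow_right hp.pos hile
      _ = p := pow_one p
  haveI hcyc : IsCyclic φ.range := by
    rw [MonoidHom.range_eq_map]
    interval_cases i
    · haveI : Subsingleton ((⊤ : Subgroup P).map φ) :=
        (Nat.card_eq_one_iff_unique.1 (by rw [hi, pow_zero])).1
      exact isCyclic_of_subsingleton
    · exact isCyclic_of_prime_card (p := p) (by rw [hi, pow_one])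
  refine ⟨fun a ha b hb c hc => hker ⟨a, ha⟩ |> fun _ => ?_, fun hinj => ?_⟩
  · refine hker (⟨a, ha⟩ * ⟨b, hb⟩ * (⟨a, ha⟩ : P)⁻¹ * (⟨b, hb⟩ : P)⁻¹) ?_ c hc
    obtain ⟨g, hg⟩ := IsCyclic.exists_generator (α := φ.range)
    obtain ⟨m, hm⟩ := mem_zpowers_iff.1 (hg (φ.rangeRestrict ⟨a, ha⟩))
    obtain ⟨l, hl⟩ := mem_zpowers_iff.1 (hg (φ.rangeRestrict ⟨b, hb⟩))
    have hma : φ ⟨a, ha⟩ = (g : Equiv.Perm (Sharp B)) ^ m := by
      rw [← SubgroupClass.coe_zpow, hm]; rfl
    have hlb : φ ⟨b, hb⟩ = (g : Equiv.Perm (Sharp B)) ^ l := by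
      rw [← SubgroupClass.coe_zpow, hl]; rfl
    simp only [map_mul, map_inv, hma, hlb]
    group
  · have : Function.Injective φ := (injective_iff_map_eq_one φ).2 fun x hx =>
      Subtype.ext (hinj x x.2 (hker x hx))
    rw [Nat.card_congr (MonoidHom.ofInjective this).toEquiv]
    exact hcardle

theorem mem_base_iff {x : G} : x • base N = base N ↔ x ∈ N := smul_one_coset_iff x

/-- The contradiction when `B` is normal in `N`. -/
theorem false_of_normal (h : Setup B N) (hn : PNil p G) (hp : p.Prime) (hp5 : 5 ≤ p)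
    (hN : N ≤ normalizer (B : Set G)) : False := by
  classical
  haveI : Fact p.Prime := ⟨hp⟩
  haveI : Fact (Nat.Prime 2) := ⟨Nat.prime_two⟩
  have hp2 : p ≠ 2 := by omega
  have hcard := h.card_eq_succ hn hp hp2 hN
  obtain ⟨β, hβ, hDne, hmax⟩ := h.exists_max_pair
  set D := pairStab (base N) β with hDdef
  have hDN : D ≤ N := fun x hx => mem_base_iff.1 (mem_pairStab.1 hx).1
  have hDp : IsPGroup p D := h.isPGroup_pairStab hn hp hp2 hβ.symm
  have hpow : ∀ {X : Subgroup G}, IsPGroup p X → ∀ x ∈ X, ∃ k, x ^ p ^ k = 1 :=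
    fun hX x hx => by
      obtain ⟨k, hk⟩ := hX ⟨x, hx⟩
      exact ⟨k, congrArg Subtype.val hk⟩
  obtain ⟨t, ht, htα, htβ⟩ := h.exists_swap hβ.symm
  have htt : t⁻¹ = t := inv_eq_self_of_involution ht
  have htN : t ∉ N := fun e => hβ (by rw [← htα]; exact mem_base_iff.2 e)
  have htD : ∀ d ∈ D, t * d * t⁻¹ ∈ D := fun d hd => by
    obtain ⟨h1, h2⟩ := mem_pairStab.1 hd
    exact mem_pairStab.2
      ⟨by rw [← htβ, smul_conj_coset, h2], by rw [← htα, smul_conj_coset, h1]⟩
  have hkill : ∀ e : G, (∀ c ∈ B, Commute e c) → (∀ c ∈ B, Commute (t * e * t⁻¹) c) → e = 1 := by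
    intro e h1 h2
    by_contra he
    obtain ⟨b, hb, hb1⟩ := h.exists_ne_one
    refine htN (h.mem_of_conj hb hb1 (h.cent_le_of_commutes he h1
      (mem_centralizer_singleton_iff.2 ?_)))
    have := ((h2 b hb).map (MulAut.conj t).toMonoidHom).symm
    simp only [MulEquiv.coe_toMonoidHom, MulAut.conj_apply, htt] at this
    rw [show t * (t * e * t) * t = (t * t) * e * (t * t) by group, mul_self_eq_one ht, one_mul,
      mul_one] at this
    rw [htt]
    exact this.eq
  have hcomm := (h.pgroup_image hcard hN hDp hDN).1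
  have hDab : ∀ a ∈ D, ∀ b ∈ D, Commute a b := by
    intro a ha b hb
    refine commutatorElement_eq_one_iff_commute.1 (hkill _ (fun c hc => hcomm a ha b hb c hc)
      fun c hc => ?_)
    have e : t * (a * b * a⁻¹ * b⁻¹) * t⁻¹ = (t * a * t⁻¹) * (t * b * t⁻¹) * (t * a * t⁻¹)⁻¹ *
        (t * b * t⁻¹)⁻¹ := by group
    rw [commutatorElement_def, e]
    exact hcomm _ (htD a ha) _ (htD b hb) c hc
  -- `D` acts faithfully on `B`
  have hD1 : ∀ y ∈ D, (∀ c ∈ B, Commute y c) → y = 1 := by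
    intro y hy hyB
    by_contra hy1
    set y' := t * y * t⁻¹ with hy'
    have hy'' : t * y' * t⁻¹ = y := by
      rw [hy', htt, show t * (t * y * t) * t = (t * t) * y * (t * t) by group, mul_self_eq_one ht,
        one_mul, mul_one]
    have hyy : Commute y y' := hDab y hy y' (htD y hy)
    set z := y * y' with hz
    have hz1 : z ≠ 1 := fun e => hy1 (hkill y hyB fun c hc => by
      rw [← hy', eq_inv_of_mul_eq_one_right e]
      exact (hyB c hc).inv_left)
    have hzt : Commute z t := by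
      have e1 : t * z * t⁻¹ = z := by
        rw [hz, show t * (y * y') * t⁻¹ = (t * y * t⁻¹) * (t * y' * t⁻¹) by group, ← hy', hy'',
          hyy.eq]
      exact (mul_inv_eq_iff_eq_mul.1 e1).symm
    obtain ⟨γ, hγ, -⟩ := h.inv_fix ht
    obtain ⟨g, rfl⟩ := QuotientGroup.mk_surjective γ
    have hzγ := h.cent_fix ht hzt hγ
    have htg : g⁻¹ * t * g ∈ N := (smul_coset_iff _ _).1 hγ
    have hzg : g⁻¹ * z * g ∈ N := (smul_coset_iff _ _).1 hzγ
    have ht' : orderOf (g⁻¹ * t * g) = 2 := by simpa using (orderOf_conj_eq g⁻¹ t).trans ht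
    have htB := h.involution_mem hN ht' htg
    have hzp : ∃ k, (g⁻¹ * z * g) ^ p ^ k = 1 := by
      obtain ⟨k, hk⟩ := hpow hDp z (mul_mem hy (htD y hy))
      refine ⟨k, ?_⟩
      rw [show g⁻¹ * z * g = g⁻¹ * z * g⁻¹⁻¹ by group, conj_pow, hk]
      simp
    have hzB := h.commutes_all hcard hN hzg hzp htB (ne_one_of_involution ht') (by
      simpa using hzt.map (MulAut.conj g⁻¹).toMonoidHom)
    have hzg1 : g⁻¹ * z * g ≠ 1 := fun e => hz1 (by
      have := congrArg (fun w => g * w * g⁻¹) e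
      simpa [mul_assoc] using this)
    have hle := h.cent_le_of_commutes hzg1 hzB
    have hd : ∀ d ∈ D, t * d * t⁻¹ = d := by
      intro d hd
      have hd' : g⁻¹ * d * g ∈ N := hle (mem_centralizer_singleton_iff.2 (Commute.eq (by
        simpa using (hDab d hd z (mul_mem hy (htD y hy))).map (MulAut.conj g⁻¹).toMonoidHom)))
      have h1 : (g⁻¹ * d * g) * (g⁻¹ * t * g) * (g⁻¹ * d * g)⁻¹ * (g⁻¹ * t * g)⁻¹ ∈ B :=
        B.mul_mem ((mem_normalizer_iff.1 (hN hd') _).1 htB) (B.inv_mem htB)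
      have e2 : (g⁻¹ * d * g) * (g⁻¹ * t * g) * (g⁻¹ * d * g)⁻¹ * (g⁻¹ * t * g)⁻¹ =
          g⁻¹ * (d * (t * d⁻¹ * t⁻¹)) * g := by group
      rw [e2] at h1
      have hw : d * (t * d⁻¹ * t⁻¹) ∈ D := mul_mem hd (htD _ (inv_mem hd))
      obtain ⟨k, hk⟩ := hpow hDp _ hw
      have h2 : (g⁻¹ * (d * (t * d⁻¹ * t⁻¹)) * g) ^ p ^ k = 1 := by
        rw [show g⁻¹ * (d * (t * d⁻¹ * t⁻¹)) * g = g⁻¹ * (d * (t * d⁻¹ * t⁻¹)) * g⁻¹⁻¹ by group,
          conj_pow, hk]
        simp
      have h3 : g⁻¹ * (d * (t * d⁻¹ * t⁻¹)) * g = 1 := by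
        rw [← orderOf_eq_one_iff]
        exact Nat.eq_one_of_dvd_coprimes
          (((Nat.coprime_primes hp Nat.prime_two).2 hp2).pow_left k)
          (orderOf_dvd_of_pow_eq_one h2) (orderOf_dvd_of_pow_eq_one (h.cl.elem.2 _ h1))
      have h4 : d * (t * d⁻¹ * t⁻¹) = 1 := by
        have := congrArg (fun w => g * w * g⁻¹) h3
        simpa [mul_assoc] using this
      rw [show t * d⁻¹ * t⁻¹ = (t * d * t⁻¹)⁻¹ by group, mul_inv_eq_one] at h4
      exact h4.symm
    exact hy1 (hkill y hyB (by rw [hd y hy]; exact hyB))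
  -- a Sylow subgroup `P` of `N` containing `D` has order `p`
  obtain ⟨P, hP⟩ := (hDp.comap_of_injective N.subtype N.subtype_injective).exists_le_sylow
  set PG := (P : Subgroup N).map N.subtype with hPG
  have hPGN : PG ≤ N := map_subtype_le _
  have hDP : D ≤ PG := fun d hd => ⟨⟨d, hDN hd⟩, hP hd, rfl⟩
  have hPfaith : ∀ x ∈ PG, (∀ c ∈ B, Commute x c) → x = 1 := by
    let Y : Subgroup (P : Subgroup N) :=
      (centralizer (B : Set G)).comap (N.subtype.comp (P : Subgroup N).subtype)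
    haveI : Y.Normal := ⟨fun y hy x => by
      refine mem_centralizer_iff.2 fun c hc => ?_
      have hx : ((x : N) : G) ∈ normalizer (B : Set G) := hN (x : N).2
      have hc' : ((x : N) : G)⁻¹ * c * ((x : N) : G) ∈ B := by
        simpa using (mem_normalizer_iff.1 (inv_mem hx) c).1 hc
      have h1 := mem_centralizer_iff.1 hy _ hc'
      simp only [MonoidHom.coe_comp, Function.comp_apply, coe_subtype, map_mul, map_inv,
        Subgroup.coe_mul, Subgroup.coe_inv] at h1 ⊢
      calc c * ((x : N) * ((y : N) : G) * ((x : N) : G)⁻¹) =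
            (x : N) * ((((x : N) : G)⁻¹ * c * (x : N)) * (y : N)) * ((x : N) : G)⁻¹ := by group
        _ = _ := by rw [h1]; group⟩
    intro x hx hxB
    by_contra hx1
    obtain ⟨w, hw, hwx⟩ := hx
    have hY : Y ≠ ⊥ := fun e => hx1 (by
      have hmem : (⟨w, hw⟩ : (P : Subgroup N)) ∈ Y := by
        refine mem_centralizer_iff.2 fun c hc => ?_
        show c * (w : G) = (w : G) * c
        rw [show (w : G) = x from hwx]
        exact (hxB c hc).eq.symm
      rw [e, mem_bot] at hmem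
      have hw1 : w = 1 := congrArg Subtype.val hmem
      rw [← hwx, hw1, map_one])
    obtain ⟨y, hyY, hyc, hyo⟩ := CfsgLib.PGroupBasic.exists_central_orderOf_eq P.2 Y hY
    set yG : G := ((y : N) : G)
    have hyD : yG ∈ D := by
      refine h.mem_pair_of_centralizes hn hp hp5 hβ hDne hmax (y : N).2
        ⟨1, ?_⟩ fun d hd => ?_
      · have h9 := pow_orderOf_eq_one y
        rw [hyo] at h9
        rw [pow_one]
        exact congrArg (fun z : (P : Subgroup N) => ((z : N) : G)) h9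
      exact (congrArg (fun z : (P : Subgroup N) => ((z : N) : G))
        (mem_center_iff.1 hyc ⟨⟨d, hDN hd⟩, hP hd⟩)).symm
    have := hD1 yG hyD fun c hc => (mem_centralizer_iff.1 hyY c hc).symm
    rw [show y = 1 from Subtype.ext (Subtype.ext this), orderOf_one] at hyo
    exact hp.one_lt.ne hyo
  have hPle : Nat.card PG ≤ p := (h.pgroup_image hcard hN (P.2.map _) hPGN).2 hPfaith
  have hDeq : D = PG ∧ Nat.card D = p := by
    haveI := (Subgroup.nontrivial_iff_ne_bot D).2 hDne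
    have h1 : p ∣ Nat.card D := hDp.card_eq_or_dvd.resolve_left (by
      have := Finite.one_lt_card (α := D); omega)
    have h2 : p ≤ Nat.card D := Nat.le_of_dvd Nat.card_pos h1
    have h3 := card_le_of_le hDP
    exact ⟨eq_of_le_of_card_ge hDP (by omega), by omega⟩
  -- nontrivial `p`-elements of `N` centralize no involution of `B`
  have hfp : ∀ x ∈ N, x ≠ 1 → (∃ k, x ^ p ^ k = 1) → ∀ b ∈ B, b ≠ 1 → ¬ Commute x b := by
    intro x hx hx1 hxp b hb hb1 hxb
    have hall := h.commutes_all hcard hN hx hxp hb hb1 hxb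
    obtain ⟨k, hk⟩ := hxp
    have hQ : IsPGroup p (zpowers (⟨x, hx⟩ : N)) := by
      obtain ⟨j, -, hj⟩ := (Nat.dvd_prime_pow hp).1
        (orderOf_dvd_of_pow_eq_one (show (⟨x, hx⟩ : N) ^ p ^ k = 1 from Subtype.ext hk))
      exact IsPGroup.of_card (n := j) (by rw [Nat.card_zpowers, hj])
    obtain ⟨S, hS⟩ := hQ.exists_le_sylow
    obtain ⟨n, hnS⟩ := MulAction.exists_smul_eq N S P
    have hxP : (n : G) * x * (n : G)⁻¹ ∈ PG := by
      refine ⟨n * ⟨x, hx⟩ * n⁻¹, ?_, rfl⟩
      rw [SetLike.mem_coe, ← SetLike.mem_coe, ← hnS]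
      exact ⟨⟨x, hx⟩, hS (mem_zpowers _), rfl⟩
    refine hx1 (conj_eq_one_iff.1 (hPfaith _ hxP fun c hc => ?_))
    have hc' : (n : G)⁻¹ * c * (n : G) ∈ B := by
      simpa using (mem_normalizer_iff.1 (hN (inv_mem n.2)) c).1 hc
    simpa [mul_assoc] using (hall _ hc').map (MulAut.conj (n : G)).toMonoidHom
  have hpair_le : ∀ γ δ : G ⧸ N, γ ≠ δ → Nat.card (pairStab γ δ) ≤ p :=
    fun γ δ hne => hDeq.2 ▸ hmax γ δ hne
  -- involutions commuting with elements of order `p` which have a fixed point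
  have hodd : ∀ e : G, orderOf e = p → ∀ γ : G ⧸ N, e • γ = γ →
      ∀ s : G, orderOf s = 2 → Commute e s → False := by
    intro e he _ _ s hs hes
    obtain ⟨δ, hδ, -⟩ := h.inv_fix hs
    obtain ⟨g, rfl⟩ := QuotientGroup.mk_surjective δ
    have hs' : orderOf (g⁻¹ * s * g) = 2 := by simpa using (orderOf_conj_eq g⁻¹ s).trans hs
    refine hfp (g⁻¹ * e * g) ((smul_coset_iff _ _).1 (h.cent_fix hs hes hδ)) ?_ ⟨1, ?_⟩ _
      (h.involution_mem hN hs' ((smul_coset_iff _ _).1 hδ)) (ne_one_of_involution hs') ?_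
    · intro e1
      have h9 : orderOf (g⁻¹ * e * g) = orderOf e := by simpa using orderOf_conj_eq g⁻¹ e
      rw [e1, orderOf_one, he] at h9
      exact hp.one_lt.ne h9
    · have h9 : orderOf (g⁻¹ * e * g) = orderOf e := by simpa using orderOf_conj_eq g⁻¹ e
      rw [pow_one, ← he, ← h9, pow_orderOf_eq_one]
    · simpa using hes.map (MulAut.conj g⁻¹).toMonoidHom
  have hinv : ∀ e : G, orderOf e = p → ∀ γ : G ⧸ N, e • γ = γ → ∀ s : G, orderOf s = 2 →
      s * e * s⁻¹ ∈ zpowers e → s * e * s⁻¹ = e⁻¹ := by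
    intro e he γ hγ s hs hse
    by_contra hne
    set e' := s * e * s⁻¹ with he'
    have hee : Commute e e' := by
      obtain ⟨i, hi⟩ := mem_zpowers_iff.1 hse
      exact hi ▸ (Commute.refl e).zpow_right i
    have hw1 : e * e' ≠ 1 := fun h1 => hne (eq_inv_of_mul_eq_one_right h1)
    have hcs : Commute (e * e') s := by
      have h1 : s * (e * e') * s⁻¹ = e * e' := by
        rw [show s * (e * e') * s⁻¹ = e' * ((s * s) * e * (s * s)⁻¹) by rw [he']; group,
          mul_self_eq_one hs, inv_one, one_mul, mul_one, hee.eq]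
      exact (mul_inv_eq_iff_eq_mul.1 h1).symm
    have hgen : e ∈ zpowers (e * e') := by
      have hmem : (⟨e * e', mul_mem (mem_zpowers e) hse⟩ : zpowers e) ≠ 1 := fun h1 =>
        hw1 (congrArg Subtype.val h1)
      haveI : Fact p.Prime := ⟨hp⟩
      have := zpowers_eq_top_of_prime_card (p := p) (by rw [Nat.card_zpowers, he]) hmem
      have h9 : (⟨e, mem_zpowers e⟩ : zpowers e) ∈
          zpowers (⟨e * e', mul_mem (mem_zpowers e) hse⟩ : zpowers e) := by
        rw [this]; exact mem_top _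
      obtain ⟨i, hi⟩ := mem_zpowers_iff.1 h9
      exact mem_zpowers_iff.2 ⟨i, congrArg Subtype.val hi⟩
    obtain ⟨i, hi⟩ := mem_zpowers_iff.1 hgen
    exact hodd e he γ hγ s hs (hi ▸ hcs.zpow_left i)
  -- an involution normalizing `D` fixes no common fixed point
  haveI hDcyc : IsCyclic D := isCyclic_of_prime_card hDeq.2
  obtain ⟨d0, hd0⟩ := IsCyclic.exists_generator (α := D)
  set d : G := (d0 : G)
  have hdD : d ∈ D := d0.2
  have hdo : orderOf d = p := by
    rw [Subgroup.orderOf_coe, orderOf_eq_card_of_forall_mem_zpowers hd0, hDeq.2]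
  have hDz : D = zpowers d := by
    refine le_antisymm (fun x hx => ?_) (zpowers_le.2 hdD)
    obtain ⟨i, hi⟩ := mem_zpowers_iff.1 (hd0 ⟨x, hx⟩)
    exact mem_zpowers_iff.2 ⟨i, congrArg Subtype.val hi⟩
  have hfree : ∀ s : G, orderOf s = 2 → (∀ x ∈ D, s * x * s⁻¹ ∈ D) → ∀ γ : G ⧸ N,
      d • γ = γ → s • γ ≠ γ := by
    intro s hs hsD γ hdγ hsγ
    obtain ⟨g, rfl⟩ := QuotientGroup.mk_surjective γ
    have hsg : g⁻¹ * s * g ∈ N := (smul_coset_iff _ _).1 hsγ
    have hdg : g⁻¹ * d * g ∈ N := (smul_coset_iff _ _).1 hdγ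
    have hs' : orderOf (g⁻¹ * s * g) = 2 := by simpa using (orderOf_conj_eq g⁻¹ s).trans hs
    have hsB := h.involution_mem hN hs' hsg
    have hsd : s * d * s⁻¹ ∈ zpowers d := hDz ▸ hsD d hdD
    have e1 := hinv d hdo _ hdγ s hs hsd
    have h1 : (g⁻¹ * d * g) * (g⁻¹ * s * g) * (g⁻¹ * d * g)⁻¹ * (g⁻¹ * s * g)⁻¹ ∈ B :=
      B.mul_mem ((mem_normalizer_iff.1 (hN hdg) _).1 hsB) (B.inv_mem hsB)
    have e2 : (g⁻¹ * d * g) * (g⁻¹ * s * g) * (g⁻¹ * d * g)⁻¹ * (g⁻¹ * s * g)⁻¹ =
        g⁻¹ * (d * (s * d * s⁻¹)⁻¹) * g := by group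
    rw [e2, e1, inv_inv] at h1
    have h2 : orderOf (d * d) ∣ 2 := by
      have h9 : orderOf (g⁻¹ * (d * d) * g) = orderOf (d * d) := by
        simpa using orderOf_conj_eq g⁻¹ (d * d)
      exact h9 ▸ orderOf_dvd_of_pow_eq_one (h.cl.elem.2 _ h1)
    rw [← pow_two, orderOf_pow, hdo,
      Nat.Coprime.gcd_eq_one ((Nat.coprime_primes hp Nat.prime_two).2 hp2), Nat.div_one] at h2
    have := Nat.le_of_dvd two_pos h2
    omega
  have hdo' : d • base N = base N := (mem_pairStab.1 hdD).1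
  have hdβ : d • β = β := (mem_pairStab.1 hdD).2
  have hfixD : ∀ γ : G ⧸ N, d • γ = γ → ∀ x ∈ D, x • γ = γ := by
    intro γ hγ x hx
    rw [hDz] at hx
    obtain ⟨i, rfl⟩ := mem_zpowers_iff.1 hx
    exact zpow_mem (mem_stabilizer_iff.2 hγ) i
  set H := centralizer ({d} : Set G) with hH
  have hHmem : ∀ x, x ∈ H ↔ Commute x d := fun x => mem_centralizer_singleton_iff
  have hHfix : ∀ x : H, ∀ γ : G ⧸ N, d • γ = γ → d • (x • γ) = x • γ := fun x γ hγ => by
    show d • (x : G) • γ = (x : G) • γ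
    rw [smul_smul, ← ((hHmem x).1 x.2).eq, ← smul_smul, hγ]
  have htd : t * d * t⁻¹ = d⁻¹ := hinv d hdo _ hdo' t ht (hDz ▸ htD d hdD)
  have htH : ∀ x ∈ H, t * x * t⁻¹ ∈ H := fun x hx => (hHmem _).2 (by
    have := ((hHmem x).1 hx).map (MulAut.conj t).toMonoidHom
    simp only [MulEquiv.coe_toMonoidHom, MulAut.conj_apply, htd] at this
    simpa using this.inv_right)
  have hHodd : Odd (Nat.card H) := by
    refine Nat.not_even_iff_odd.1 fun he => ?_
    obtain ⟨s, hs⟩ := exists_prime_orderOf_dvd_card' 2 (even_iff_two_dvd.1 he)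
    exact hodd d hdo _ hdo' (s : G) (by rw [Subgroup.orderOf_coe]; exact hs)
      (((hHmem s).1 s.2).symm)
  have horbfix : ∀ γ ∈ orbit H (base N), d • γ = γ := by
    rintro _ ⟨x, rfl⟩
    exact hHfix x _ hdo'
  have horbfix' : ∀ γ ∈ orbit H β, d • γ = γ := by
    rintro _ ⟨x, rfl⟩
    exact hHfix x _ hdβ
  have hcardorb : Nat.card (orbit H β) = Nat.card (orbit H (base N)) := by
    refine le_antisymm (Nat.card_le_card_of_injective (fun γ => ⟨t • γ.1, ?_⟩) fun a b e =>
      Subtype.ext (smul_left_cancel t (congrArg Subtype.val e :)))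
      (Nat.card_le_card_of_injective (fun γ => ⟨t • γ.1, ?_⟩) fun a b e =>
      Subtype.ext (smul_left_cancel t (congrArg Subtype.val e :)))
    · obtain ⟨x, hx⟩ := γ.2
      refine ⟨⟨_, htH x x.2⟩, ?_⟩
      show (t * (x : G) * t⁻¹) • base N = t • γ.1
      rw [← hx, ← htβ, smul_conj_coset]
      rfl
    · obtain ⟨x, hx⟩ := γ.2
      refine ⟨⟨_, htH x x.2⟩, ?_⟩
      show (t * (x : G) * t⁻¹) • β = t • γ.1
      rw [← hx, ← htα, smul_conj_coset]
      rfl
  have hdisj : ∀ γ, γ ∈ orbit H (base N) → γ ∈ orbit H β → False := by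
    intro γ h1 h2
    haveI := Fintype.ofFinite (orbit H (base N))
    have hinvariant : ∀ δ : orbit H (base N), t • δ.1 ∈ orbit H (base N) := by
      rintro ⟨_, x, rfl⟩
      have hβorb : β ∈ orbit H (base N) := by
        rw [← orbit_eq_iff.2 h1, orbit_eq_iff.2 h2]
        exact mem_orbit_self β
      obtain ⟨y, hy⟩ := hβorb
      refine ⟨⟨_, htH x x.2⟩ * y, ?_⟩
      show ((t * (x : G) * t⁻¹) * (y : G)) • base N = t • (x : G) • base N
      rw [← smul_smul, show (y : G) • base N = β from hy, ← htα, smul_conj_coset]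
    have heven : Even (Fintype.card (orbit H (base N))) := by
      have := Finset.sum_involution (s := (Finset.univ : Finset (orbit H (base N))))
        (f := fun _ => (1 : ZMod 2)) (fun δ _ => ⟨t • δ.1, hinvariant δ⟩) (fun _ _ => rfl)
        (fun δ _ _ e => hfree t ht htD δ.1 (horbfix δ.1 δ.2) (congrArg Subtype.val e))
        (fun _ _ => Finset.mem_univ _)
        (fun δ _ => Subtype.ext (by
          show t • t • δ.1 = δ.1
          rw [smul_smul, mul_self_eq_one ht, one_smul]))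
      rw [Finset.sum_const, Finset.card_univ, nsmul_one] at this
      exact (ZMod.natCast_eq_zero_iff_even).1 this
    have hdvd : Nat.card (orbit H (base N)) ∣ Nat.card H := by
      have := Subgroup.index_dvd_card (stabilizer H (base N))
      rw [MulAction.index_stabilizer, ← Nat.card_coe_set_eq] at this
      exact this
    rw [← Nat.card_eq_fintype_card] at heven
    exact Nat.not_even_iff_odd.2 (hHodd.of_dvd_nat hdvd) heven
  -- the centralizer of `d` in `N`
  have hCN : ∀ c, c ∈ N → c ∈ H → c ∈ D := by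
    intro c hcN hcH
    have hpp : ∀ q, q.Prime → q ∣ orderOf c → q = p := by
      intro q hq hqd
      by_contra hqp
      set c' := c ^ (orderOf c / q) with hc'
      have hc'o : orderOf c' = q := by
        rw [hc', orderOf_pow_of_dvd (Nat.div_pos (Nat.le_of_dvd (orderOf_pos c) hqd) hq.pos).ne'
          (Nat.div_dvd_of_dvd hqd), Nat.div_div_self hqd (orderOf_pos c).ne']
      have hc'1 : c' ≠ 1 := fun e => hq.one_lt.ne' (by rw [← hc'o, e, orderOf_one])
      have hc'H : c' ∈ H := pow_mem hcH _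
      haveI : Fact q.Prime := ⟨hq⟩
      set C : Subgroup H := zpowers ⟨c', hc'H⟩
      have hC : IsPGroup q C := IsPGroup.of_card (n := 1) (by
        rw [Nat.card_zpowers, Subgroup.orderOf_mk, hc'o, pow_one])
      have hc'o' : c' • base N = base N := mem_base_iff.2 (pow_mem hcN _)
      have honly : ∀ δ : G ⧸ N, c' • δ = δ → δ = base N := fun δ hδ =>
        h.eq_of_fix hn hp hp2 hc'1 (hc'o ▸ (Nat.coprime_primes hq hp).2 hqp) hδ hc'o'
      have h1 := hC.card_modEq_card_fixedPoints (orbit H (base N))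
      have h2 := hC.card_modEq_card_fixedPoints (orbit H β)
      have e1 : Nat.card (fixedPoints C (orbit H (base N))) = 1 := by
        rw [Nat.card_eq_one_iff_unique]
        refine ⟨⟨fun a b => Subtype.ext (Subtype.ext ?_)⟩, ⟨⟨⟨base N, mem_orbit_self _⟩, fun z => ?_⟩⟩⟩
        · rw [honly _ (congrArg Subtype.val (a.2 ⟨_, mem_zpowers _⟩)),
            honly _ (congrArg Subtype.val (b.2 ⟨_, mem_zpowers _⟩))]
        · obtain ⟨i, hi⟩ := mem_zpowers_iff.1 z.2
          refine Subtype.ext ?_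
          show ((z : H) : G) • base N = base N
          rw [← hi, SubgroupClass.coe_zpow]
          exact zpow_mem (mem_stabilizer_iff.2 hc'o') i
      have e2 : Nat.card (fixedPoints C (orbit H β)) = 0 := by
        rw [Nat.card_eq_zero]
        refine Or.inl ⟨fun a => hdisj (base N) (mem_orbit_self _) ?_⟩
        have h3 := honly _ (congrArg Subtype.val (a.2 ⟨_, mem_zpowers _⟩))
        exact h3 ▸ a.1.2
      rw [e1] at h1
      rw [e2, hcardorb] at h2
      exact one_ne_zero (Nat.ModEq.eq_of_lt_of_lt (h1.symm.trans h2) hq.one_lt hq.pos)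
    have hord := Nat.eq_prime_pow_of_unique_prime_dvd (orderOf_pos c).ne'
      fun {q} hq hqd => hpp q hq hqd
    set j := (orderOf c).primeFactorsList.length
    have hcD : c ∈ D := h.mem_pair_of_centralizes hn hp hp5 hβ hDne hmax hcN
      ⟨j, by rw [← hord, pow_orderOf_eq_one]⟩ fun x hx => by
        obtain ⟨i, rfl⟩ := mem_zpowers_iff.1 (hDz.le hx)
        exact ((hHmem c).1 hcH).zpow_right i
    exact hcD
  have hcardH : Nat.card H = p * Nat.card (orbit H (base N)) := by
    have h1 := (stabilizer H (base N)).card_mul_index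
    rw [MulAction.index_stabilizer, ← Nat.card_coe_set_eq] at h1
    have h2 : Nat.card (stabilizer H (base N)) = p := by
      rw [← hDeq.2]
      exact Nat.card_congr
        { toFun := fun x => ⟨x.1.1, hCN _ (mem_base_iff.1 x.2) x.1.2⟩
          invFun := fun x => ⟨⟨x.1, (hHmem _).2 (hDab _ x.2 d hdD)⟩, (mem_pairStab.1 x.2).1⟩
          left_inv := fun _ => rfl
          right_inv := fun _ => rfl }
    rw [h2] at h1
    exact h1.symm
  -- the fixed points of `d`
  set F := {γ : G ⧸ N | d • γ = γ} with hF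
  set f := Nat.card F with hf
  have hfe : 2 * Nat.card (orbit H (base N)) ≤ f := by
    rw [two_mul]
    conv_lhs => arg 2; rw [← hcardorb]
    rw [← Nat.card_sum, hf]
    refine Nat.card_le_card_of_injective (Sum.elim (fun γ => ⟨γ.1, horbfix γ.1 γ.2⟩)
      fun γ => ⟨γ.1, horbfix' γ.1 γ.2⟩) ?_
    rintro (a | a) (b | b) e
    · exact congrArg Sum.inl (Subtype.ext (congrArg Subtype.val e :))
    · exact absurd b.2 fun hb => hdisj _ a.2 ((congrArg Subtype.val e : a.1 = b.1) ▸ hb)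
    · exact absurd a.2 fun ha => hdisj _ b.2 ((congrArg Subtype.val e : a.1 = b.1) ▸ ha)
    · exact congrArg Sum.inr (Subtype.ext (congrArg Subtype.val e :))
  have hstabF : ∀ γ, γ ≠ base N → d • γ = γ → pairStab (base N) γ = D := fun γ hγ hγd =>
    (eq_of_le_of_card_ge (fun x hx => mem_pairStab.2 ⟨(mem_pairStab.1 hx).1, hfixD γ hγd x hx⟩)
      (hDeq.2 ▸ hpair_le _ _ hγ.symm)).symm
  choose w hw hwo hwγ using fun γ : {γ : F // γ.1 ≠ base N} => h.exists_swap γ.2.symm
  have hwD : ∀ γ, ∀ x ∈ D, w γ * x * (w γ)⁻¹ ∈ D := fun γ x hx => by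
    rw [← hstabF γ.1.1 γ.2 γ.1.2] at hx ⊢
    obtain ⟨h1, h2⟩ := mem_pairStab.1 hx
    exact mem_pairStab.2
      ⟨by rw [← hwγ γ, smul_conj_coset, h2], by rw [← hwo γ, smul_conj_coset, h1]⟩
  have hwd : ∀ γ, w γ * d * (w γ)⁻¹ = d⁻¹ := fun γ =>
    hinv d hdo _ hdo' _ (hw γ) (hDz ▸ hwD γ d hdD)
  have hI : Nat.card {γ : F // γ.1 ≠ base N} * p ≤ Nat.card H := by
    rw [← hDeq.2, ← Nat.card_prod]
    refine Nat.card_le_card_of_injective (fun z => (⟨t * (w z.1 * z.2.1), ?_⟩ : H)) ?_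
    · refine (hHmem _).2 ?_
      have h1 : (w z.1 * z.2.1) * d = d⁻¹ * (w z.1 * z.2.1) := by
        rw [mul_assoc, (hDab _ z.2.2 d hdD).eq, ← mul_assoc, mul_inv_eq_iff_eq_mul.1 (hwd z.1),
          mul_assoc]
      have h2 : t * d⁻¹ = d * t := by
        rw [show t * d⁻¹ = (t * d * t⁻¹)⁻¹ * t by group, htd, inv_inv]
      show t * (w z.1 * z.2.1) * d = d * (t * (w z.1 * z.2.1))
      rw [mul_assoc, h1, ← mul_assoc, h2, mul_assoc]
    · rintro ⟨γ, x⟩ ⟨δ, y⟩ e
      have e' : w γ * (x : G) = w δ * (y : G) := mul_left_cancel (congrArg Subtype.val e :)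
      have hγδ : γ = δ := by
        refine Subtype.ext (Subtype.ext ?_)
        rw [← hwo γ, ← hwo δ]
        calc w γ • base N = (w γ * (x : G)) • base N := by
              rw [← smul_smul, (mem_pairStab.1 x.2).1]
          _ = w δ • base N := by rw [e', ← smul_smul, (mem_pairStab.1 y.2).1]
      subst hγδ
      exact Prod.ext rfl (Subtype.ext (mul_left_cancel e'))
  have hf1 : Nat.card {γ : F // γ.1 ≠ base N} = f - 1 := by
    haveI := Fintype.ofFinite F
    rw [Nat.card_eq_fintype_card, hf, Nat.card_eq_fintype_card]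
    have : (fun γ : F => γ.1 ≠ base N) = fun γ : F => ¬ γ = ⟨base N, hdo'⟩ := by
      funext γ; simp [Subtype.ext_iff]
    rw [Fintype.card_congr (Equiv.subtypeEquivRight fun γ => iff_of_eq (congrFun this γ)),
      Fintype.card_subtype_compl, Fintype.card_subtype_eq]
  rw [hf1, hcardH, mul_comm] at hI
  have hI' := Nat.le_of_mul_le_mul_left hI hp.pos
  have hf2 : 2 ≤ f := by
    refine le_trans ?_ (Nat.card_le_card_of_injective
      (fun b : Bool => if b then (⟨base N, hdo'⟩ : F) else ⟨β, hdβ⟩) ?_)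
    · simp
    · intro a b e
      rcases a <;> rcases b <;> simp only [if_true, if_false, Bool.false_eq_true] at e <;>
        first
          | rfl
          | exact absurd (congrArg Subtype.val e) hβ
          | exact absurd (congrArg Subtype.val e).symm hβ
  have horb1 : Nat.card (orbit H (base N)) = 1 := by omega
  have hf' : f = 2 := by omega
  have hHD : H = D := (eq_of_le_of_card_ge (fun x hx => (hHmem x).2 (hDab x hx d hdD))
    (by rw [hcardH, horb1, mul_one, hDeq.2])).symm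
  -- Sylow `p`-subgroups of `G` have order `p`
  obtain ⟨Q, hQ⟩ := hDp.exists_le_sylow
  have hQcard : Nat.card (Q : Subgroup G) = p := by
    haveI : Nontrivial (Q : Subgroup G) :=
      ⟨⟨d, hQ hdD⟩, 1, fun e => hp.one_lt.ne' (by
        rw [← hdo, show d = 1 from congrArg Subtype.val e, orderOf_one])⟩
    obtain ⟨z, -, hzc, hzo⟩ := CfsgLib.PGroupBasic.exists_central_orderOf_eq Q.2
      (⊤ : Subgroup (Q : Subgroup G)) top_ne_bot
    have hzH : (z : G) ∈ D := hHD ▸ (hHmem _).2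
      (congrArg Subtype.val (mem_center_iff.1 hzc ⟨d, hQ hdD⟩)).symm
    have hdz : d ∈ zpowers (z : G) := by
      have : zpowers (z : G) = D := eq_of_le_of_card_ge (zpowers_le.2 hzH) (by
        rw [Nat.card_zpowers, Subgroup.orderOf_coe, hzo, hDeq.2])
      rw [this]; exact hdD
    have hQD : (Q : Subgroup G) ≤ D := fun x hx => by
      rw [← hHD]
      obtain ⟨i, hi⟩ := mem_zpowers_iff.1 hdz
      refine (hHmem x).2 (hi ▸ Commute.zpow_right ?_ i)
      exact congrArg Subtype.val (mem_center_iff.1 hzc ⟨x, hx⟩)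
    rw [le_antisymm hQD hQ, hDeq.2]
  have hdiv : ∀ x : G, (∃ k, x ^ p ^ k = 1) → x ^ p = 1 := by
    rintro x ⟨k, hk⟩
    obtain ⟨j, -, hj⟩ := (Nat.dvd_prime_pow hp).1 (orderOf_dvd_of_pow_eq_one hk)
    obtain ⟨R, hR⟩ := (IsPGroup.of_card (n := j) (by rw [Nat.card_zpowers, hj]) :
      IsPGroup p (zpowers x)).exists_le_sylow
    have hRc : Nat.card (R : Subgroup G) = p := by
      rw [Sylow.card_eq_multiplicity, ← Q.card_eq_multiplicity, hQcard]
    have := orderOf_dvd_natCard (⟨x, hR (mem_zpowers x)⟩ : (R : Subgroup G))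
    rw [hRc, Subgroup.orderOf_mk] at this
    exact orderOf_dvd_iff_pow_eq_one.1 this
  -- transport to all elements of order `p`
  have hconj : ∀ e : G, orderOf e = p → ∃ g : G, ∃ x ∈ D, x ≠ 1 ∧ e = g * x * g⁻¹ := by
    intro e he
    obtain ⟨R, hR⟩ := (IsPGroup.of_card (n := 1) (by rw [Nat.card_zpowers, he, pow_one]) :
      IsPGroup p (zpowers e)).exists_le_sylow
    obtain ⟨g, hg⟩ := MulAction.exists_smul_eq G Q R
    have heR : e ∈ (R : Subgroup G) := hR (mem_zpowers e)
    rw [← SetLike.mem_coe, ← hg] at heR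
    obtain ⟨x, hx, hxe⟩ := heR
    have hQD : (Q : Subgroup G) = D := (eq_of_le_of_card_ge hQ (by rw [hQcard, hDeq.2])).symm
    refine ⟨g, x, hQD ▸ hx, fun h1 => ?_, hxe.symm⟩
    have he1 : e = 1 := by rw [← hxe, h1]; exact map_one _
    rw [he1, orderOf_one] at he
    exact hp.one_lt.ne he
  have hDfix : ∀ x ∈ D, x ≠ 1 → {γ : G ⧸ N | x • γ = γ} = F ∧ centralizer ({x} : Set G) ≤ D := by
    intro x hx hx1
    have hgen : zpowers x = D := eq_of_le_of_card_ge (zpowers_le.2 hx) (by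
      have hxo : orderOf x = p := orderOf_eq_prime (hdiv x (hpow hDp x hx)) hx1
      rw [Nat.card_zpowers, hxo, hDeq.2])
    obtain ⟨i, hi⟩ := mem_zpowers_iff.1 (hgen ▸ hdD : d ∈ zpowers x)
    refine ⟨Set.ext fun γ => ⟨fun hγ => ?_, fun hγ => hfixD γ hγ x hx⟩, fun y hy => ?_⟩
    · show d • γ = γ
      rw [← hi]
      exact zpow_mem (mem_stabilizer_iff.2 hγ) i
    · rw [← hHD]
      exact (hHmem y).2 (hi ▸ (show Commute y x from mem_centralizer_singleton_iff.1 hy).zpow_right i)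
  have hC : ∀ e : G, orderOf e = p → Nat.card (centralizer ({e} : Set G)) ≤ p := by
    intro e he
    obtain ⟨g, x, hx, hx1, rfl⟩ := hconj e he
    rw [← hDeq.2]
    refine Nat.card_le_card_of_injective (fun y => ⟨g⁻¹ * y.1 * g, (hDfix x hx hx1).2
      (mem_centralizer_singleton_iff.2 (Commute.eq ?_))⟩) fun a b e => Subtype.ext (by
        simpa using congrArg Subtype.val e)
    have := (show Commute (y : G) (g * x * g⁻¹) from mem_centralizer_singleton_iff.1 y.2).map
      (MulAut.conj g⁻¹).toMonoidHom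
    simpa [mul_assoc] using this
  have htwo : ∀ e : G, orderOf e = p →
      ∃ a b : G ⧸ N, a ≠ b ∧ e • a = a ∧ e • b = b := by
    intro e he
    obtain ⟨g, x, hx, hx1, rfl⟩ := hconj e he
    refine ⟨g • base N, g • β, fun h1 => hβ (smul_left_cancel g h1).symm, ?_, ?_⟩
    · rw [smul_conj_coset, (mem_pairStab.1 hx).1]
    · rw [smul_conj_coset, (mem_pairStab.1 hx).2]
  -- the count
  set n := Nat.card (G ⧸ N) with hn'
  set IN := {s : G // orderOf s = 2 ∧ s ∈ N}
  have hIN : Nat.card IN = p := by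
    rw [← Nat.add_sub_cancel p 1, ← hcard, ← card_sharp]
    exact Nat.card_congr
      { toFun := fun s => ⟨s.1, h.involution_mem hN s.2.1 s.2.2, ne_one_of_involution s.2.1⟩
        invFun := fun b => ⟨b.1, elem_orderOf h.cl.elem b.2.1 b.2.2, h.le_N b.2.1⟩
        left_inv := fun _ => rfl
        right_inv := fun _ => rfl }
  set OP := {z : (G ⧸ N) × (G ⧸ N) // z.1 ≠ z.2} with hOP
  set W := {e : G // orderOf e = p}
  set WS := Σ e : W, {s : G // orderOf s = 2 ∧ s * e.1 * s⁻¹ = e.1⁻¹}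
  choose rep hrep using fun γ : G ⧸ N => QuotientGroup.mk_surjective γ
  have hcj : ∀ (γ : G ⧸ N) (s : IN),
      orderOf (rep γ * s.1 * (rep γ)⁻¹) = 2 ∧ (rep γ * s.1 * (rep γ)⁻¹) • γ = γ := fun γ s =>
    ⟨(orderOf_conj_eq _ _).trans s.2.1, by
      rw [← hrep γ, smul_coset_iff, hrep γ]
      simpa [mul_assoc] using s.2.2⟩
  have hlower : Nat.card OP * (p * p) ≤ Nat.card WS := by
    rw [← hIN, ← Nat.card_prod, ← Nat.card_prod]
    refine Nat.card_le_card_of_injective (fun z =>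
      (⟨⟨(rep z.1.1.1 * z.2.1.1 * (rep z.1.1.1)⁻¹) * (rep z.1.1.2 * z.2.2.1 * (rep z.1.1.2)⁻¹), ?_⟩,
        rep z.1.1.1 * z.2.1.1 * (rep z.1.1.1)⁻¹, (hcj _ _).1, ?_⟩ : WS)) ?_
    · obtain ⟨hs, hsα⟩ := hcj z.1.1.1 z.2.1
      obtain ⟨hu, huβ⟩ := hcj z.1.1.2 z.2.2
      set s := rep z.1.1.1 * z.2.1.1 * (rep z.1.1.1)⁻¹
      set u := rep z.1.1.2 * z.2.2.1 * (rep z.1.1.2)⁻¹
      have hne1 : s * u ≠ 1 := fun e => z.1.2 ((h.inv_fix hs).unique hsα (by
        rwa [eq_inv_of_mul_eq_one_left e, inv_eq_self_of_involution hu]))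
      have hoddw : Odd (orderOf (s * u)) := by
        refine Nat.not_even_iff_odd.1 fun he => z.1.2 ?_
        obtain ⟨hz', hzs, hzu⟩ := central_involution hs hu he
        exact (h.inv_fix hz').unique (h.cent_fix hs hzs hsα) (h.cent_fix hu hzu huβ)
      refine orderOf_eq_prime (hdiv _ ⟨(orderOf (s * u)).primeFactorsList.length, ?_⟩) hne1
      rw [← Nat.eq_prime_pow_of_unique_prime_dvd (p := p) (orderOf_pos _).ne' fun {q} hq hqd => ?_,
        pow_orderOf_eq_one]
      by_contra hqp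
      have hq2 : q ≠ 2 := fun e => Nat.not_even_iff_odd.2 hoddw (even_iff_two_dvd.2 (e ▸ hqd))
      set a := (s * u) ^ (orderOf (s * u) / q)
      have hao : orderOf a = q := by
        rw [orderOf_pow_of_dvd (Nat.div_pos (Nat.le_of_dvd (orderOf_pos _) hqd) hq.pos).ne'
          (Nat.div_dvd_of_dvd hqd), Nat.div_div_self hqd (orderOf_pos _).ne']
      haveI : Fact q.Prime := ⟨hq⟩
      have hainv : s * a * s⁻¹ = a⁻¹ := inverts_pow (left_inverts_prod hs hu) _
      have hsn : s ∈ normalizer (zpowers a : Set G) := mem_normalizer_fintype fun y hy => by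
        obtain ⟨i, rfl⟩ := mem_zpowers_iff.1 hy
        rw [inverts_zpow hainv]
        exact inv_mem (zpow_mem (mem_zpowers a) i)
      have hcom := hn.commute_prime hp hq Nat.prime_two hq2 hqp hp2.symm
        (IsPGroup.of_card (n := 1) (by rw [Nat.card_zpowers, hao, pow_one])) (mem_zpowers a) hsn
        ⟨1, by rw [pow_one, pow_two, mul_self_eq_one hs]⟩
      rw [hcom.symm.eq, mul_inv_cancel_right] at hainv
      have h2 : orderOf a ∣ 2 := orderOf_dvd_of_pow_eq_one (by
        rw [pow_two]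
        nth_rw 2 [hainv]
        exact mul_inv_cancel a)
      rw [hao] at h2
      exact hq2 ((Nat.prime_dvd_prime_iff_eq hq Nat.prime_two).1 h2)
    · exact left_inverts_prod (hcj _ _).1 (hcj _ _).1
    · rintro ⟨⟨⟨α₁, β₁⟩, hz₁⟩, i₁, j₁⟩ ⟨⟨⟨α₂, β₂⟩, hz₂⟩, i₂, j₂⟩ e
      have es : rep α₁ * i₁.1 * (rep α₁)⁻¹ = rep α₂ * i₂.1 * (rep α₂)⁻¹ :=
        congrArg (fun x : WS => x.2.1) e
      have ew := congrArg (fun x : WS => x.1.1) e
      simp only at ew
      rw [es] at ew
      have eu : rep β₁ * j₁.1 * (rep β₁)⁻¹ = rep β₂ * j₂.1 * (rep β₂)⁻¹ := mul_left_cancel ew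
      have hα : α₁ = α₂ := (h.inv_fix (hcj α₁ i₁).1).unique (hcj α₁ i₁).2 (es ▸ (hcj α₂ i₂).2)
      have hβ' : β₁ = β₂ := (h.inv_fix (hcj β₁ j₁).1).unique (hcj β₁ j₁).2 (eu ▸ (hcj β₂ j₂).2)
      subst hα hβ'
      obtain rfl : i₁ = i₂ := Subtype.ext (mul_left_cancel (mul_right_cancel es))
      obtain rfl : j₁ = j₂ := Subtype.ext (mul_left_cancel (mul_right_cancel eu))
      rfl
  haveI := Fintype.ofFinite W
  haveI := Fintype.ofFinite OP
  have hWS : Nat.card WS ≤ Nat.card W * p := by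
    rw [Nat.card_sigma, Nat.card_eq_fintype_card (α := W), ← Finset.card_univ, ← smul_eq_mul]
    refine Finset.sum_le_card_nsmul _ _ p fun e _ => ?_
    rcases isEmpty_or_nonempty {s : G // orderOf s = 2 ∧ s * e.1 * s⁻¹ = e.1⁻¹} with hE | ⟨⟨s₀⟩⟩
    · rw [Nat.card_eq_zero.2 (Or.inl hE)]; exact zero_le
    · refine le_trans (Nat.card_le_card_of_injective
        (fun s => (⟨s₀.1 * s.1, mem_centralizer_singleton_iff.2 ?_⟩ : centralizer ({e.1} : Set G)))
        fun a b h1 => Subtype.ext (mul_left_cancel (congrArg Subtype.val h1 :))) (hC e.1 e.2)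
      have h3 : s.1 * e.1 = e.1⁻¹ * s.1 := mul_inv_eq_iff_eq_mul.1 s.2.2
      have h4 : s₀.1 * e.1⁻¹ = e.1 * s₀.1 := by
        have h4' : s₀.1 * e.1 = e.1⁻¹ * s₀.1 := mul_inv_eq_iff_eq_mul.1 s₀.2.2
        calc s₀.1 * e.1⁻¹ = e.1 * (e.1⁻¹ * s₀.1) * e.1⁻¹ := by group
          _ = e.1 * s₀.1 := by rw [← h4']; group
      rw [mul_assoc, h3, ← mul_assoc, h4, mul_assoc]
  choose fa fb hfab hfa hfb using fun e : W => htwo e.1 e.2
  have hW2 : Nat.card W * 2 ≤ Nat.card OP * (p - 1) := by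
    have h1 : Nat.card (W × Bool) ≤
        Nat.card (Σ z : OP, {x : pairStab z.1.1 z.1.2 // x ≠ 1}) := by
      refine Nat.card_le_card_of_injective (fun z =>
        if z.2 then ⟨⟨(fa z.1, fb z.1), hfab z.1⟩, ⟨z.1.1, mem_pairStab.2 ⟨hfa z.1, hfb z.1⟩⟩, ?_⟩
        else ⟨⟨(fb z.1, fa z.1), (hfab z.1).symm⟩, ⟨z.1.1, mem_pairStab.2 ⟨hfb z.1, hfa z.1⟩⟩, ?_⟩) ?_
      · intro e
        have := congrArg (fun x => orderOf x) (congrArg Subtype.val e)
        simp only [OneMemClass.coe_one, orderOf_one, z.1.2] at this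
        exact hp.one_lt.ne' this
      · intro e
        have := congrArg (fun x => orderOf x) (congrArg Subtype.val e)
        simp only [OneMemClass.coe_one, orderOf_one, z.1.2] at this
        exact hp.one_lt.ne' this
      · rintro ⟨e₁, b₁⟩ ⟨e₂, b₂⟩ heq
        rcases b₁ <;> rcases b₂ <;> simp only [if_true, if_false, Bool.false_eq_true] at heq <;>
          have hE := congrArg (fun x : (Σ z : OP, {x : pairStab z.1.1 z.1.2 // x ≠ 1}) =>
            (x.2.1 : G)) heq <;>
          have hZ := congrArg (fun x : (Σ z : OP, {x : pairStab z.1.1 z.1.2 // x ≠ 1}) =>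
            x.1.1.1) heq <;>
          obtain rfl : e₁ = e₂ := Subtype.ext hE
        · rfl
        · exact absurd hZ (hfab _).symm
        · exact absurd hZ (hfab _)
        · rfl
    rw [Nat.card_prod, show Nat.card Bool = 2 by simp] at h1
    refine h1.trans ?_
    rw [Nat.card_sigma, Nat.card_eq_fintype_card (α := OP), ← Finset.card_univ, ← smul_eq_mul]
    refine Finset.sum_le_card_nsmul _ _ (p - 1) fun z _ => ?_
    haveI := Fintype.ofFinite (pairStab z.1.1 z.1.2)
    rw [Nat.card_eq_fintype_card, Fintype.card_subtype_compl, Fintype.card_subtype_eq,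
      ← Nat.card_eq_fintype_card]
    exact Nat.sub_le_sub_right (hpair_le _ _ z.2) 1
  have hOPpos : 0 < Nat.card OP := by
    haveI : Nonempty OP := ⟨⟨(base N, β), hβ.symm⟩⟩
    exact Nat.card_pos
  have h5 : Nat.card OP * (p * p) * 2 ≤ Nat.card OP * (p - 1) * p := by
    calc Nat.card OP * (p * p) * 2 ≤ Nat.card W * p * 2 :=
          Nat.mul_le_mul_right 2 (hlower.trans hWS)
      _ = Nat.card W * 2 * p := by ring
      _ ≤ Nat.card OP * (p - 1) * p := Nat.mul_le_mul_right p hW2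
  have h6 : p * p * 2 ≤ (p - 1) * p := Nat.le_of_mul_le_mul_left
    (by simpa [mul_assoc] using h5) hOPpos
  have h7 : (p - 1) * p ≤ p * p := Nat.mul_le_mul_right p (Nat.sub_le p 1)
  have : 0 < p * p := Nat.mul_pos hp.pos hp.pos
  omega

end Setup

end CfsgLib.MinSimple12
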