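import Mathlib
import Cfsg.Agent.Lib.MinSimple12.Pairs
import Cfsg.Agent.Lib.MinSimple12.Solvable
import Cfsg.Agent.Lib.PLocal5.PGroupBasic
import Cfsg.Agent.Lib.PLocal.Thompson
import Cfsg.Agent.Lib.Involutions.StronglyEmbedded
import Cfsg.Agent.Lib.Solvable.Fitting

/-!
The case in which `N` has trivial 2-core: Glauberman's `ZJ` theorem gives the contradiction.
-/

set_option autoImplicit false
set_option linter.unusedSectionVars false
set_option linter.style.haveILetI false

namespace CfsgLib.MinSimple12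

open Subgroup CfsgLib.Involutions MulAction

universe u

variable {G : Type u} [Group G] [Finite G] {B N : Subgroup G} {p : ℕ}

/-- An elementary 2-group acting on an abelian group of exponent `p` has a common eigenvector
outside any given proper subgroup. -/
theorem exists_signed {p : ℕ} (hp : p.Prime) (hp2 : p ≠ 2) (hB : Cfsg.IsElementaryAbelian 2 B)
    {Z Z₀ : Subgroup G} (hZ : ∀ x ∈ Z, ∀ y ∈ Z, Commute x y) (hZp : ∀ x ∈ Z, x ^ p = 1)
    (hBZ : ∀ b ∈ B, ∀ x ∈ Z, b * x * b⁻¹ ∈ Z) {z : G} (hz : z ∈ Z) (hz0 : z ∉ Z₀) :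
    ∃ w ∈ Z, w ∉ Z₀ ∧ ∀ b ∈ B, b * w * b⁻¹ = w ∨ b * w * b⁻¹ = w⁻¹ := by
  classical
  suffices key : ∀ s : Finset B, ∃ w ∈ Z, w ∉ Z₀ ∧
      ∀ b ∈ s, (b : G) * w * (b : G)⁻¹ = w ∨ (b : G) * w * (b : G)⁻¹ = w⁻¹ by
    haveI := Fintype.ofFinite B
    obtain ⟨w, hw, hw0, hws⟩ := key Finset.univ
    exact ⟨w, hw, hw0, fun b hb => hws ⟨b, hb⟩ (Finset.mem_univ _)⟩
  intro s
  induction s using Finset.induction with
  | empty => exact ⟨z, hz, hz0, by simp⟩
  | insert c s hcs ih =>
    obtain ⟨w, hw, hw0, hws⟩ := ih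
    have hc2 : ∀ x, (c : G) * ((c : G) * x * (c : G)⁻¹) * (c : G)⁻¹ = x := fun x => by
      have h2 : (c : G) * c = 1 := by rw [← pow_two]; exact hB.2 _ c.2
      rw [show (c : G) * ((c : G) * x * (c : G)⁻¹) * (c : G)⁻¹ = (c * c) * x * ((c : G) * c)⁻¹ by
        group, h2, one_mul, inv_one, mul_one]
    set v := (c : G) * w * (c : G)⁻¹ with hv
    have hvZ : v ∈ Z := hBZ _ c.2 _ hw
    have hsv : ∀ b ∈ s, (b : G) * v * (b : G)⁻¹ = v ∧ (b : G) * w * (b : G)⁻¹ = w ∨
        (b : G) * v * (b : G)⁻¹ = v⁻¹ ∧ (b : G) * w * (b : G)⁻¹ = w⁻¹ := by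
      intro b hb
      have e : (b : G) * v * (b : G)⁻¹ = (c : G) * ((b : G) * w * (b : G)⁻¹) * (c : G)⁻¹ := by
        have hbc : (b : G) * c = c * b := congrArg Subtype.val (hB.1.is_comm.comm b c)
        calc (b : G) * v * (b : G)⁻¹ = ((b : G) * c) * w * ((b : G) * c)⁻¹ := by rw [hv]; group
          _ = _ := by rw [hbc]; group
      rcases hws b hb with h1 | h1
      · exact Or.inl ⟨by rw [e, h1], h1⟩
      · exact Or.inr ⟨by rw [e, h1, hv]; group, h1⟩
    by_cases h1 : w * v ∈ Z₀
    · refine ⟨w * v⁻¹, mul_mem hw (inv_mem hvZ), fun h2 => hw0 ?_, fun b hb => ?_⟩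
      · have h3 : w ^ 2 ∈ Z₀ := by
          have := mul_mem h1 h2
          have e : w * v * (w * v⁻¹) = w ^ 2 := by
            have hc : v * w = w * v := (hZ v hvZ w hw).eq
            calc w * v * (w * v⁻¹) = w * (v * w) * v⁻¹ := by group
              _ = w * (w * v) * v⁻¹ := congrArg (fun u => w * u * v⁻¹) hc
              _ = w ^ 2 := by rw [pow_two, mul_assoc, mul_inv_cancel_right]
          rwa [e] at this
        obtain ⟨j, hj⟩ := hp.odd_of_ne_two hp2
        have e : w = (w ^ 2) ^ (j + 1) := by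
          rw [← pow_mul, show 2 * (j + 1) = p + 1 by omega, pow_succ, hZp w hw, one_mul]
        rw [e]
        exact pow_mem h3 _
      · rcases Finset.mem_insert.1 hb with rfl | hb
        · right
          rw [show (b : G) * (w * v⁻¹) * (b : G)⁻¹ =
            ((b : G) * w * (b : G)⁻¹) * ((b : G) * v * (b : G)⁻¹)⁻¹ by group, hc2 w, ← hv]
          group
        · rcases hsv b hb with ⟨h3, h4⟩ | ⟨h3, h4⟩
          · left
            rw [show (b : G) * (w * v⁻¹) * (b : G)⁻¹ =
              ((b : G) * w * (b : G)⁻¹) * ((b : G) * v * (b : G)⁻¹)⁻¹ by group, h3, h4]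
          · right
            rw [show (b : G) * (w * v⁻¹) * (b : G)⁻¹ =
              ((b : G) * w * (b : G)⁻¹) * ((b : G) * v * (b : G)⁻¹)⁻¹ by group, h3, h4, inv_inv,
              mul_inv_rev, inv_inv]
            exact (hZ _ (inv_mem hw) _ hvZ).eq
    · refine ⟨w * v, mul_mem hw hvZ, h1, fun b hb => ?_⟩
      rcases Finset.mem_insert.1 hb with rfl | hb
      · left
        rw [show (b : G) * (w * v) * (b : G)⁻¹ =
          ((b : G) * w * (b : G)⁻¹) * ((b : G) * v * (b : G)⁻¹) by group, hc2 w, ← hv]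
        exact (hZ _ hvZ _ hw).eq
      · rcases hsv b hb with ⟨h3, h4⟩ | ⟨h3, h4⟩
        · left
          rw [show (b : G) * (w * v) * (b : G)⁻¹ =
            ((b : G) * w * (b : G)⁻¹) * ((b : G) * v * (b : G)⁻¹) by group, h3, h4]
        · right
          rw [show (b : G) * (w * v) * (b : G)⁻¹ =
            ((b : G) * w * (b : G)⁻¹) * ((b : G) * v * (b : G)⁻¹) by group, h3, h4]
          exact (hZ _ hw _ hvZ).mul_inv.symm

namespace Setup

theorem normalizer_ne_top (h : Setup B N) {X : Subgroup G} (hX : X ≠ ⊥) (hp : Group.IsSolvable X) :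
    normalizer (X : Set G) ≠ ⊤ := fun e => by
  haveI := h.simple
  rcases (normalizer_eq_top_iff.1 e).eq_bot_or_eq_top with h1 | h1
  · exact hX h1
  · rw [h1] at hp
    exact h.nsolv (Group.isSolvable_of_surjective
      (f := (Subgroup.topEquiv : (⊤ : Subgroup G) ≃* G).toMonoidHom) Subgroup.topEquiv.surjective)

theorem false_of_trivial_two_core (h : Setup B N) (hn : PNil p G) (hp : p.Prime) (hp5 : 5 ≤ p)
    (hR : Cfsg.pCore 2 N = ⊥) : False := by
  classical
  haveI := h.simple
  haveI : Fact p.Prime := ⟨hp⟩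
  haveI : Fact (Nat.Prime 2) := ⟨Nat.prime_two⟩
  haveI := h.solv N h.ne_top
  have hp2 : p ≠ 2 := by omega
  set U := Cfsg.pCore p N with hU
  haveI hUn : U.Normal := Cfsg.pCore_normal p _
  -- `O_p(N)` is nontrivial
  have hU1 : U ≠ ⊥ := by
    intro hbot
    set F := Cfsg.fittingSubgroup N with hF
    have hF2 : F ≤ Cfsg.pPrimeCore 2 N := by
      rw [hF, CfsgLib.Fitting.fitting_eq_iSup_pCore]
      refine iSup_le fun q => ?_
      have hq := Nat.prime_of_mem_primeFactors q.2
      by_cases hq2 : (q : ℕ) = 2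
      · rw [hq2, hR]; exact bot_le
      · haveI : Fact (q : ℕ).Prime := ⟨hq⟩
        refine CfsgLib.PCore.le_pPrimeCore (Cfsg.pCore_normal _ _) ?_
        obtain ⟨k, hk⟩ := IsPGroup.iff_card.1 (CfsgLib.PCore.pCore_isPGroup (p := (q : ℕ)) (G := N))
        rw [hk]
        exact Nat.Coprime.pow_left k ((Nat.coprime_primes hq Nat.prime_two).2 hq2)
    obtain ⟨b, hb, hb1⟩ := h.exists_ne_one
    have hbF : (⟨b, h.le_N hb⟩ : N) ∈ centralizer (F : Set N) := by
      have hle : F ≤ centralizer ({⟨b, h.le_N hb⟩} : Set N) := by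
        rw [hF, CfsgLib.Fitting.fitting_eq_iSup_pCore]
        refine iSup_le fun q => ?_
        have hq := Nat.prime_of_mem_primeFactors q.2
        haveI : Fact (q : ℕ).Prime := ⟨hq⟩
        by_cases hq2 : (q : ℕ) = 2
        · rw [hq2, hR]; exact bot_le
        by_cases hqp : (q : ℕ) = p
        · rw [hqp, ← hU, hbot]; exact bot_le
        intro x hx
        refine mem_centralizer_singleton_iff.2 (Subtype.ext (hn.commute_prime hp
          (X := (Cfsg.pCore (q : ℕ) N).map N.subtype) hq Nat.prime_two hq2 hqp hp2.symm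
          ((CfsgLib.PCore.pCore_isPGroup (p := (q : ℕ)) (G := N)).map N.subtype)
          ⟨x, hx, rfl⟩ ?_ ⟨1, h.cl.elem.2 b hb⟩).eq)
        refine mem_normalizer_fintype ?_
        rintro _ ⟨w, hw, rfl⟩
        exact ⟨⟨b, h.le_N hb⟩ * w * (⟨b, h.le_N hb⟩ : N)⁻¹,
          (Cfsg.pCore_normal _ _).conj_mem w hw _, rfl⟩
      exact mem_centralizer_iff.2 fun f hf => mem_centralizer_singleton_iff.1 (hle hf)
    have h1 := orderOf_dvd_natCard (⟨⟨b, h.le_N hb⟩, hF2 (CfsgLib.Fitting.centralizer_fitting_le hbF)⟩ :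
      Cfsg.pPrimeCore 2 N)
    rw [Subgroup.orderOf_mk, Subgroup.orderOf_mk, elem_orderOf h.cl.elem hb hb1] at h1
    exact CfsgLib.PCore.not_dvd_card_pPrimeCore h1
  -- the `p'`-core of `N` has odd order
  set K := Cfsg.pPrimeCore p N with hK
  haveI hKn : K.Normal := Cfsg.pPrimeCore_normal p _
  have hKnil : Group.IsNilpotent K := hn.subgroup N K CfsgLib.PCore.pPrimeCore_coprime
  have hK2 : ¬ 2 ∣ Nat.card K := by
    intro h2
    obtain ⟨S⟩ : Nonempty (Sylow 2 K) := inferInstance
    haveI := S.characteristic_of_normal (CfsgLib.Solvable.EigenChain.sylow_normal hKnil S)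
    have h1 : (S : Subgroup K).map K.subtype ≤ Cfsg.pCore 2 N :=
      CfsgLib.PCore.le_pCore inferInstance (S.2.map _)
    rw [hR, le_bot_iff, map_eq_bot_iff_of_injective _ K.subtype_injective] at h1
    exact S.ne_bot_of_dvd_card h2 h1
  obtain ⟨β, hβ, hDne, hmax⟩ := h.exists_max_pair
  set D := pairStab (base N) β with hDdef
  have hDN : D ≤ N := fun x hx => (smul_one_coset_iff x).1 (mem_pairStab.1 hx).1
  have hDp : IsPGroup p D := h.isPGroup_pairStab hn hp hp2 hβ.symm
  obtain ⟨P, hP⟩ := (hDp.comap_of_injective N.subtype N.subtype_injective).exists_le_sylow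
  set PG := (P : Subgroup N).map N.subtype with hPG
  have hPGN : PG ≤ N := map_subtype_le _
  have hUP : U ≤ (P : Subgroup N) := CfsgLib.PCore.pCore_le_sylow P
  haveI : (U.subgroupOf (P : Subgroup N)).Normal := inferInstance
  obtain ⟨y₀, hy₀U, hy₀c, hy₀o⟩ := CfsgLib.PGroupBasic.exists_central_orderOf_eq P.2
    (U.subgroupOf (P : Subgroup N)) (fun e => hU1 (by
      have := congrArg (Subgroup.map (P : Subgroup N).subtype) e
      rwa [subgroupOf_map_subtype, inf_of_le_left hUP, Subgroup.map_bot] at this))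
  set y : G := ((y₀ : N) : G) with hy
  have hyp : y ^ p = 1 := by
    have h9 := pow_orderOf_eq_one y₀
    rw [hy₀o] at h9
    exact congrArg (fun z : (P : Subgroup N) => ((z : N) : G)) h9
  have hyo : orderOf y = p := by rw [hy, Subgroup.orderOf_coe, Subgroup.orderOf_coe, hy₀o]
  have hy1 : y ≠ 1 := fun e => hp.one_lt.ne (by rw [← hyo, e, orderOf_one])
  have hycomm : ∀ x ∈ PG, Commute y x := by
    rintro _ ⟨x, hx, rfl⟩
    exact (congrArg (fun z : (P : Subgroup N) => ((z : N) : G))
      (mem_center_iff.1 hy₀c ⟨x, hx⟩)).symm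
  have hDP : D ≤ PG := fun d hd => ⟨⟨d, hDN hd⟩, hP hd, rfl⟩
  have hyD : y ∈ D := h.mem_pair_of_centralizes hn hp hp5 hβ hDne hmax (y₀ : N).2
    ⟨1, by rw [pow_one, hyp]⟩ fun d hd => hycomm d (hDP hd)
  have hPG1 : PG ≠ ⊥ := fun e => hy1 (by
    have : y ∈ PG := ⟨(y₀ : N), y₀.2, rfl⟩
    rwa [e, mem_bot] at this)
  -- the normalizer of `Z(J(P))`
  set ZP := CfsgLib.PLocal.zj 0 PG with hZP
  set X := normalizer (ZP : Set G) with hX
  have hPGp : IsPGroup p PG := P.2.map _
  have hZP1 : ZP ≠ ⊥ := by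
    rw [hZP, CfsgLib.PLocal.zj_zero]
    intro e
    exact CfsgLib.PLocal.centerJ_zero_ne_bot hPGp hPG1 e
  have hXne : X ≠ ⊤ := by
    haveI := (hPGp.to_le (CfsgLib.PLocal.zj_le 0 PG)).isNilpotent
    exact h.normalizer_ne_top hZP1 inferInstance
  have hfac := solvable_factor_zj (G := N) hp5 P
  set X' := normalizer (CfsgLib.PLocal.zj 0 (P : Subgroup N) : Set N) with hX'
  have hmapX : ∀ x ∈ X', (x : G) ∈ X := by
    intro x hx
    rw [hX, hZP, hPG, CfsgLib.PLocal.zj_map N.subtype_injective]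
    exact le_normalizer_map N.subtype ⟨x, hx, rfl⟩
  have hXN : X ≤ N := by
    have hidx : ¬ 2 ∣ X'.index := by
      intro h2
      have h1 := CfsgLib.PCore.card_sup_dvd_mul K X'
      rw [hfac, Subgroup.card_top, ← X'.card_mul_index, mul_comm (Nat.card K)] at h1
      exact hK2 (h2.trans ((Nat.mul_dvd_mul_iff_left Nat.card_pos).1 h1))
    obtain ⟨S⟩ : Nonempty (Sylow 2 X') := inferInstance
    set SN := (S : Subgroup X').map X'.subtype with hSN
    have hSNidx : ¬ 2 ∣ SN.index := by
      rw [hSN, Subgroup.index_map_subtype]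
      exact fun hd => (Nat.prime_two.dvd_mul.1 hd).elim S.not_dvd_index hidx
    set R : Sylow 2 N := (S.2.map X'.subtype : IsPGroup 2 SN).toSylow hSNidx
    obtain ⟨R', hR'⟩ := ((elem_isPGroup h.cl.elem).comap_of_injective N.subtype
      N.subtype_injective).exists_le_sylow
    obtain ⟨n, hnR⟩ := MulAction.exists_smul_eq N R' R
    have hBX : ∀ b ∈ B, (n : G) * b * (n : G)⁻¹ ∈ X := by
      intro b hb
      refine hmapX (n * ⟨b, h.le_N hb⟩ * n⁻¹) (map_subtype_le (S : Subgroup X') ?_)
      show n * ⟨b, h.le_N hb⟩ * n⁻¹ ∈ (R : Subgroup N)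
      rw [← SetLike.mem_coe, ← hnR]
      exact ⟨⟨b, h.le_N hb⟩, hR' hb, rfl⟩
    have hX'' : X.comap (MulAut.conj (n : G)).toMonoidHom ≠ ⊤ := fun e => hXne (by
      refine eq_top_iff.2 fun x _ => ?_
      have h2 : (n : G)⁻¹ * x * (n : G) ∈ X.comap (MulAut.conj (n : G)).toMonoidHom := e ▸ mem_top _
      simpa [mem_comap, mul_assoc] using h2)
    haveI := h.solv _ hX''
    have hle := overgroup_le h.cl h.cent_le h.norm_le
      (show B ≤ X.comap (MulAut.conj (n : G)).toMonoidHom from fun b hb => hBX b hb)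
    intro x hx
    have h3 := hle (show (n : G)⁻¹ * x * (n : G) ∈ X.comap (MulAut.conj (n : G)).toMonoidHom by
      simpa [mem_comap, mul_assoc] using hx)
    simpa [mul_assoc] using mul_mem (mul_mem n.2 h3) (inv_mem n.2)
  -- `P` is a Sylow subgroup of `G`
  obtain ⟨Q, hQ⟩ := hPGp.exists_le_sylow
  have hQeq : (Q : Subgroup G) = PG := by
    by_contra hne
    obtain ⟨x, hxQ, hxP, hxn⟩ :=
      exists_mem_normalizer_notMem Q.2 (lt_of_le_of_ne hQ (Ne.symm hne))
    have hxN : x ∈ N := hXN (CfsgLib.PLocal.normalizer_le_normalizer_zj 0 PG hxn)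
    have hle : (P : Subgroup N) ≤ (Q : Subgroup G).comap N.subtype := fun z hz => hQ ⟨z, hz, rfl⟩
    have heq := P.is_maximal' (Q.2.comap_of_injective N.subtype N.subtype_injective) hle
    exact hxP ⟨⟨x, hxN⟩, heq ▸ hxQ, rfl⟩
  -- the centralizer of `y`
  set U' := U.map N.subtype with hU'
  have hU'P : U' ≤ PG := map_mono hUP
  let Z : Subgroup G :=
    { carrier := {x | x ∈ U' ∧ (∀ w ∈ U', Commute x w) ∧ x ^ p = 1}
      one_mem' := ⟨one_mem _, fun w _ => Commute.one_left w, one_pow p⟩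
      mul_mem' := fun {a b} ha hb => ⟨mul_mem ha.1 hb.1,
        fun w hw => (ha.2.1 w hw).mul_left (hb.2.1 w hw), by
        rw [(ha.2.1 b hb.1).mul_pow, ha.2.2, hb.2.2, one_mul]⟩
      inv_mem' := fun {a} ha => ⟨inv_mem ha.1, fun w hw => (ha.2.1 w hw).inv_left, by
        rw [inv_pow, ha.2.2, inv_one]⟩ }
  have hU'inv : ∀ g ∈ N, ∀ w ∈ U', g * w * g⁻¹ ∈ U' := by
    rintro g hg _ ⟨w, hw, rfl⟩
    exact ⟨⟨g, hg⟩ * w * ⟨g, hg⟩⁻¹, hUn.conj_mem w hw _, rfl⟩
  have hZinv : ∀ g ∈ N, ∀ x ∈ Z, g * x * g⁻¹ ∈ Z := by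
    intro g hg x hx
    refine ⟨hU'inv g hg x hx.1, fun w hw => ?_, by rw [conj_pow, hx.2.2]; simp⟩
    have := (hx.2.1 _ (hU'inv g⁻¹ (inv_mem hg) w hw)).map (MulAut.conj g).toMonoidHom
    simpa [mul_assoc] using this
  have hyZ : y ∈ Z := ⟨⟨(y₀ : N), mem_subgroupOf.1 hy₀U, rfl⟩,
    fun w hw => hycomm w (hU'P hw), hyp⟩
  have hZcomm : ∀ a ∈ Z, ∀ b ∈ Z, Commute a b := fun a ha b hb => ha.2.1 b hb.1
  have hBZ : ∀ b ∈ B, ∀ x ∈ Z, b * x * b⁻¹ ∈ Z := fun b hb => hZinv b (h.le_N hb)
  obtain ⟨z₁, hz₁, hz₁', hs₁⟩ := exists_signed hp hp2 h.cl.elem (Z₀ := ⊥) hZcomm (fun x hx => hx.2.2)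
    hBZ hyZ (by rwa [mem_bot])
  rw [mem_bot] at hz₁'
  have hyPG : y ∈ PG := ⟨(y₀ : N), y₀.2, rfl⟩
  have hCy : centralizer ({y} : Set G) ≤ N := by
    by_cases hZ1 : Z ≤ zpowers z₁
    · have e1 : zpowers y = Z := by
        refine eq_of_le_of_card_ge (zpowers_le.2 hyZ) ?_
        refine (card_le_of_le hZ1).trans ?_
        rw [Nat.card_zpowers, Nat.card_zpowers, hyo, orderOf_eq_prime hz₁.2.2 hz₁']
      have hne : normalizer (Z : Set G) ≠ ⊤ := by
        haveI := (hPGp.to_le (fun x hx => hU'P hx.1 : Z ≤ PG)).isNilpotent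
        exact h.normalizer_ne_top (fun e => hy1 (by rw [e, mem_bot] at hyZ; exact hyZ)) inferInstance
      haveI := h.solv _ hne
      have hBn : B ≤ normalizer (Z : Set G) := fun b hb =>
        mem_normalizer_fintype fun x hx => hBZ b hb x hx
      refine le_trans ?_ (overgroup_le h.cl h.cent_le h.norm_le hBn)
      intro x hx
      refine mem_normalizer_fintype fun w hw => ?_
      rw [← e1, SetLike.mem_coe] at hw
      rw [← e1, SetLike.mem_coe]
      obtain ⟨i, rfl⟩ := mem_zpowers_iff.1 hw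
      rw [((show Commute x y from mem_centralizer_singleton_iff.1 hx).zpow_right i).eq,
        mul_inv_cancel_right]
      exact zpow_mem (mem_zpowers y) i
    · obtain ⟨z, hzZ, hz⟩ := SetLike.not_le_iff_exists.1 hZ1
      obtain ⟨z₂, hz₂, hz₂', hs₂⟩ := exists_signed hp hp2 h.cl.elem (Z₀ := zpowers z₁) hZcomm
        (fun x hx => hx.2.2) hBZ hzZ hz
      set E := closure ({z₁, z₂} : Set G) with hE
      have hEZ : E ≤ Z := (closure_le Z).2 (Set.insert_subset hz₁ (Set.singleton_subset_iff.2 hz₂))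
      have hE1 : ∀ e ∈ E, e ≠ 1 → centralizer ({e} : Set G) ≤ N := by
        intro e he he1
        have hne : normalizer (zpowers e : Set G) ≠ ⊤ :=
          h.normalizer_ne_top (zpowers_ne_bot.2 he1)
            (Group.isSolvable_of_comm fun a b => by
              obtain ⟨i, hi⟩ := mem_zpowers_iff.1 a.2
              obtain ⟨j, hj⟩ := mem_zpowers_iff.1 b.2
              exact Subtype.ext (by
                show (a : G) * b = b * a
                rw [← hi, ← hj]
                exact ((Commute.refl e).zpow_zpow i j).eq))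
        set V := B ⊓ normalizer (zpowers e : Set G) with hV
        let same : G → Prop := fun b => (b * z₁ * b⁻¹ = z₁ ∧ b * z₂ * b⁻¹ = z₂) ∨
          (b * z₁ * b⁻¹ = z₁⁻¹ ∧ b * z₂ * b⁻¹ = z₂⁻¹)
        have hsame : ∀ b ∈ B, same b → b ∈ V := by
          intro b hb hbs
          refine ⟨hb, ?_⟩
          have key : b * e * b⁻¹ = e ∨ b * e * b⁻¹ = e⁻¹ := by
            rcases hbs with ⟨h1, h2⟩ | ⟨h1, h2⟩
            · left
              refine closure_induction (fun x hx => ?_) (by simp) (fun x x' _ _ hx hx' => ?_)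
                (fun x _ hx => ?_) he
              · rcases hx with rfl | rfl
                exacts [h1, h2]
              · rw [show b * (x * x') * b⁻¹ = (b * x * b⁻¹) * (b * x' * b⁻¹) by group, hx, hx']
              · rw [show b * x⁻¹ * b⁻¹ = (b * x * b⁻¹)⁻¹ by group, hx]
            · right
              refine closure_induction (fun x hx => ?_) (by simp) (fun x x' hxm hxm' hx hx' => ?_)
                (fun x _ hx => ?_) he
              · rcases hx with rfl | rfl
                exacts [h1, h2]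
              · rw [show b * (x * x') * b⁻¹ = (b * x * b⁻¹) * (b * x' * b⁻¹) by group, hx, hx',
                  mul_inv_rev]
                exact (hZcomm _ (inv_mem (hEZ hxm)) _ (inv_mem (hEZ hxm'))).eq
              · rw [show b * x⁻¹ * b⁻¹ = (b * x * b⁻¹)⁻¹ by group, hx]
          refine mem_normalizer_fintype fun w hw => ?_
          obtain ⟨i, rfl⟩ := mem_zpowers_iff.1 hw
          rw [← conj_zpow]
          rcases key with hk | hk
          · rw [hk]; exact zpow_mem (mem_zpowers e) i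
          · rw [hk]; exact zpow_mem (inv_mem (mem_zpowers e)) i
        have hsplit : ∀ b₀ ∈ B, ¬ same b₀ → ∀ b ∈ B, ¬ same b → same (b₀ * b) := by
          intro b₀ hb₀ hn₀ b hb hnb
          have hcomp : ∀ w : G, b₀ * b * w * (b₀ * b)⁻¹ = b₀ * (b * w * b⁻¹) * b₀⁻¹ :=
            fun w => by group
          have hi : ∀ w : G, b₀ * w⁻¹ * b₀⁻¹ = (b₀ * w * b₀⁻¹)⁻¹ := fun w => by group
          show _ ∨ _
          rw [hcomp, hcomp]
          rcases hs₁ b₀ hb₀ with p1 | p1 <;> rcases hs₂ b₀ hb₀ with p2 | p2 <;>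
            rcases hs₁ b hb with q1 | q1 <;> rcases hs₂ b hb with q2 | q2 <;>
            first
              | exact (hn₀ (Or.inl ⟨p1, p2⟩)).elim
              | exact (hn₀ (Or.inr ⟨p1, p2⟩)).elim
              | exact (hnb (Or.inl ⟨q1, q2⟩)).elim
              | exact (hnb (Or.inr ⟨q1, q2⟩)).elim
              | (left; rw [q1, q2]; simp only [hi, p1, p2, inv_inv, and_self]; done)
              | (right; rw [q1, q2]; simp only [hi, p1, p2, inv_inv, and_self]; done)
        have hVcard : 2 < Nat.card V := by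
          have hle : Nat.card B ≤ Nat.card (V × Bool) := by
            by_cases hall : ∀ b ∈ B, same b
            · exact Nat.card_le_card_of_injective
                (fun b : B => ((⟨b, hsame b b.2 (hall b b.2)⟩ : V), true))
                (fun a b e => Subtype.ext (congrArg (fun x : V × Bool => (x.1 : G)) e :))
            · push Not at hall
              obtain ⟨b₀, hb₀, hn₀⟩ := hall
              refine Nat.card_le_card_of_injective (fun b : B =>
                if hb : same b then ((⟨b, hsame b b.2 hb⟩ : V), true)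
                else ((⟨b₀ * b, hsame _ (mul_mem hb₀ b.2) (hsplit b₀ hb₀ hn₀ b b.2 hb)⟩ : V), false))
                ?_
              intro a b e
              simp only at e
              split_ifs at e with h1 h2 h2
              · exact Subtype.ext (congrArg (fun x : V × Bool => (x.1 : G)) e :)
              · exact absurd (congrArg Prod.snd e) (by simp)
              · exact absurd (congrArg Prod.snd e) (by simp)
              · exact Subtype.ext (mul_left_cancel (congrArg (fun x : V × Bool => (x.1 : G)) e :))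
          rw [Nat.card_prod, show Nat.card Bool = 2 by simp] at hle
          have := h.cl.rank
          omega
        intro x hx
        refine h.proper_le hne inf_le_left inf_le_right hVcard ?_
        refine mem_normalizer_fintype fun w hw => ?_
        obtain ⟨i, rfl⟩ := mem_zpowers_iff.1 hw
        rw [((show Commute x e from mem_centralizer_singleton_iff.1 hx).zpow_right i).eq,
          mul_inv_cancel_right]
        exact zpow_mem (mem_zpowers e) i
      set C := centralizer ({y} : Set G) with hC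
      have hCne : C ≠ ⊤ := centralizer_ne_top h.nsolv hy1
      haveI := h.solv C hCne
      have hPC : PG ≤ C := fun x hx => mem_centralizer_singleton_iff.2 (hycomm x hx).symm.eq
      have hQC : (Q : Subgroup G) ≤ C := hQeq ▸ hPC
      set K₀ := (Cfsg.pPrimeCore p C).map C.subtype with hK₀
      have hEP : E ≤ PG := hEZ.trans (fun x hx => hU'P hx.1)
      have hK₀N : K₀ ≤ N := by
        haveI : IsMulCommutative E :=
          ⟨⟨fun a b => Subtype.ext (hZcomm a (hEZ a.2) b (hEZ b.2)).eq⟩⟩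
        have hncyc : ¬ IsCyclic E := fun hcyc => by
          haveI := hcyc
          obtain ⟨g, hg⟩ := IsCyclic.exists_generator (α := E)
          have hgo : Nat.card E ≤ p := by
            rw [← orderOf_eq_card_of_forall_mem_zpowers hg]
            exact Nat.le_of_dvd hp.pos (orderOf_dvd_of_pow_eq_one
              (show g ^ p = 1 from Subtype.ext (hEZ g.2).2.2))
          have hle : zpowers z₁ ≤ E := zpowers_le.2 (subset_closure (by simp))
          have := eq_of_le_of_card_ge hle (by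
            rwa [Nat.card_zpowers, orderOf_eq_prime hz₁.2.2 hz₁'])
          exact hz₂' (this.symm ▸ subset_closure (by simp) : z₂ ∈ zpowers z₁)
        have hEn : E ≤ normalizer (K₀ : Set G) := by
          intro a ha
          refine mem_normalizer_fintype ?_
          rintro _ ⟨w, hw, rfl⟩
          exact ⟨⟨a, hPC (hEP ha)⟩ * w * (⟨a, hPC (hEP ha)⟩ : C)⁻¹,
            (Cfsg.pPrimeCore_normal p _).conj_mem w hw _, rfl⟩
        obtain ⟨k, hk⟩ := IsPGroup.iff_card.1 (hPGp.to_le hEP)
        rw [← CfsgLib.CoprimeGeneration.iSup_centralizer_eq E K₀ hncyc hEn (by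
          rw [hk, card_map_of_injective C.subtype_injective]
          exact (CfsgLib.PCore.pPrimeCore_coprime (p := p) (G := C)).symm.pow_left k)]
        exact iSup₂_le fun e he => inf_le_right.trans (hE1 e he.1 he.2)
      intro x hx
      have hfacC := solvable_factor_zj (G := C) hp5 (Q.subtype hQC)
      haveI : (Cfsg.pPrimeCore p C).Normal := Cfsg.pPrimeCore_normal p _
      obtain ⟨k, hk, w, hw, hkw⟩ := mem_sup_of_normal_left.1 (hfacC ▸ mem_top (⟨x, hx⟩ : C) :
        (⟨x, hx⟩ : C) ∈ Cfsg.pPrimeCore p C ⊔ _)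
      have hwX : (w : G) ∈ X := by
        have e : ((Q.subtype hQC : Sylow p C) : Subgroup C).map C.subtype = PG := by
          rw [Sylow.coe_subtype, subgroupOf_map_subtype, inf_of_le_left hQC, hQeq]
        rw [hX, hZP, ← e, CfsgLib.PLocal.zj_map C.subtype_injective]
        exact le_normalizer_map C.subtype ⟨w, hw, rfl⟩
      have : x = (k : G) * (w : G) := (congrArg Subtype.val hkw).symm
      rw [this]
      exact mul_mem (hK₀N ⟨k, hk, rfl⟩) (hXN hwX)
  -- fusion of `y`
  obtain ⟨g, hg⟩ := QuotientGroup.mk_surjective β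
  have hyg : g⁻¹ * y * g ∈ N := by
    have := (mem_pairStab.1 hyD).2
    rw [← hg, smul_coset_iff] at this
    exact this
  have hQ' : IsPGroup p (zpowers (⟨g⁻¹ * y * g, hyg⟩ : N)) := IsPGroup.of_card (n := 1) (by
    rw [Nat.card_zpowers, Subgroup.orderOf_mk, pow_one, ← hyo]
    simpa using orderOf_conj_eq g⁻¹ y)
  obtain ⟨S, hS⟩ := hQ'.exists_le_sylow
  obtain ⟨n, hnS⟩ := MulAction.exists_smul_eq N S P
  have hyn : ((n : G) * g⁻¹) * y * ((n : G) * g⁻¹)⁻¹ ∈ (Q : Subgroup G) := by
    rw [hQeq]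
    refine ⟨n * ⟨g⁻¹ * y * g, hyg⟩ * n⁻¹, ?_, by simp [mul_assoc]⟩
    rw [SetLike.mem_coe, ← SetLike.mem_coe, ← hnS]
    exact ⟨⟨g⁻¹ * y * g, hyg⟩, hS (mem_zpowers _), rfl⟩
  obtain ⟨k, hk, hky⟩ := zj_control hp5 (fun R hR' hR1 => by
    haveI := hR'.isNilpotent
    exact h.solv _ (h.normalizer_ne_top hR1 inferInstance)) Q
    (show y ∈ (Q : Subgroup G) from hQeq ▸ hyPG) hyn
  rw [hQeq, ← hZP] at hk
  have hc : k⁻¹ * ((n : G) * g⁻¹) ∈ centralizer ({y} : Set G) := by
    refine mem_centralizer_singleton_iff.2 ?_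
    calc k⁻¹ * ((n : G) * g⁻¹) * y =
        k⁻¹ * (((n : G) * g⁻¹) * y * ((n : G) * g⁻¹)⁻¹) * ((n : G) * g⁻¹) := by group
      _ = y * (k⁻¹ * ((n : G) * g⁻¹)) := by rw [← hky]; group
  have hgN := mul_mem (mul_mem (inv_mem n.2) (hXN hk)) (hCy hc)
  have hgN' : g ∈ N := by
    have := inv_mem hgN
    simpa [mul_assoc] using this
  refine hβ ?_
  rw [← hg, QuotientGroup.eq, mul_one]
  exact inv_mem hgN'

end Setup

end CfsgLib.MinSimple12
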