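import Mathlib
import Cfsg.Agent.Lib.MinSimple12.Base
import Cfsg.Agent.Lib.MinSimple12.CaseNormal
import Cfsg.Agent.Lib.MinSimple12.CaseZJ
import Cfsg.Agent.Lib.ConstDiff.Burnside

/-!
If all subgroups of order prime to `p` are nilpotent, `p > 3`, the group is solvable.
-/

set_option autoImplicit false
set_option linter.unusedSectionVars false
set_option linter.style.haveILetI false

namespace CfsgLib.MinSimple12

open Subgroup

universe u

theorem isSolvable_of_pnil {G : Type u} [Group G] [Finite G] {p : ℕ} (hp : p.Prime) (hp3 : 3 < p)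
    (h : PNil p G) : Group.IsSolvable G := by
  suffices key : ∀ n : ℕ, ∀ (H : Type u) [Group H] [Finite H], Nat.card H = n → PNil p H →
      Group.IsSolvable H from key _ G rfl h
  intro n
  induction n using Nat.strong_induction_on with
  | _ n ih =>
    intro H _ _ hn hH
    subst hn
    haveI : Fact (Nat.Prime 2) := ⟨Nat.prime_two⟩
    by_contra hns
    haveI : Nontrivial H := by
      rcases subsingleton_or_nontrivial H with hs | hnt
      · exact absurd (Group.isSolvable_of_comm fun a b => Subsingleton.elim (α := H) _ _) hns
      · exact hnt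
    have hsolv : ∀ K : Subgroup H, K ≠ ⊤ → Group.IsSolvable K := fun K hK =>
      ih _ (lt_of_le_of_ne (Subgroup.card_le_card_group K)
        (fun e => hK (Subgroup.eq_top_of_card_eq K e))) K rfl (hH.subgroup K)
    haveI : IsSimpleGroup H := ⟨fun K hK => by
      haveI := hK
      by_contra hc
      push Not at hc
      have hlt : Nat.card (H ⧸ K) < Nat.card H := by
        have h1 := Subgroup.card_eq_card_quotient_mul_card_subgroup K
        have h2 : 1 < Nat.card K := (Subgroup.one_lt_card_iff_ne_bot K).mpr hc.1
        have h3 : 0 < Nat.card (H ⧸ K) := Nat.card_pos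
        nlinarith
      exact hns ((Group.isSolvable_iff_subgroup_quotient K).2
        ⟨hsolv K hc.2, ih _ hlt _ rfl (hH.quotient hp K)⟩)⟩
    by_cases h2 : 2 ∣ Nat.card H
    · obtain ⟨B, N, hs⟩ := exists_setup_of_pnil hns hsolv h2 hH hp hp3
      have hp5 : 5 ≤ p := by
        have : p ≠ 4 := fun e => by rw [e] at hp; norm_num at hp
        omega
      by_cases hR : Cfsg.pCore 2 N = ⊥
      · exact hs.false_of_trivial_two_core hH hp hp5 hR
      · exact hs.false_of_normal hH hp hp5 (hs.normal_of_two_core hR)
    · exact hns (CfsgLib.ConstDiff.isSolvable_of_odd_card h2)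

end CfsgLib.MinSimple12
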